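import Cfsg.Agent.Linear.Dickson.Orders
import Cfsg.Agent.Linear.Dickson.PGLMax
import Cfsg.Agent.H91.RO.Abelian
import Mathlib.GroupTheory.Transfer
import Mathlib.NumberTheory.LegendreSymbol.QuadraticReciprocity

/-!
# The Borel subgroup of `PSL₂`: double cosets and the two unipotent classes
-/

set_option autoImplicit false
set_option linter.style.haveILetI false

namespace Cfsg.Agent.H88.GalFix

open Subgroup Cfsg.Agent
open Cfsg.Agent.Linear Cfsg.Agent.Linear.Dickson

universe u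

/-- A group of twice odd order has a subgroup of index two. -/
theorem exists_index_two {K : Type u} [Group K] [Finite K] {m : ℕ} (hm : Odd m)
    (hK : Nat.card K = 2 * m) : ∃ M : Subgroup K, M.Normal ∧ M.index = 2 := by
  haveI : Fact (Nat.Prime 2) := ⟨Nat.prime_two⟩
  obtain ⟨j, hj⟩ := hm
  let P : Sylow 2 K := default
  have hP : Nat.card ↥(P : Subgroup K) = 2 := by
    obtain ⟨k, hk⟩ := IsPGroup.iff_card.1 P.isPGroup'
    have hk2 : k < 2 := by
      by_contra h
      have : 2 ^ 2 ∣ 2 * m := (pow_dvd_pow 2 (not_lt.1 h)).trans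
        (hk ▸ hK ▸ (P : Subgroup K).card_subgroup_dvd_card)
      omega
    have hk0 : k ≠ 0 := by
      intro h
      have h1 : (P : Subgroup K) = ⊥ := Subgroup.card_eq_one.1 (by rw [hk, h, pow_zero])
      exact P.ne_bot_of_dvd_card (hK ▸ dvd_mul_right 2 m) h1
    rw [hk, show k = 1 by omega, pow_one]
  have hc : Subgroup.normalizer ((P : Subgroup K) : Set K) ≤
      Subgroup.centralizer ((P : Subgroup K) : Set K) := by
    intro n hn a ha
    have key : ∀ b : K, b ∈ (P : Subgroup K) → b ≠ 1 → ∀ c ∈ (P : Subgroup K), c ≠ 1 → c = b := by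
      intro b hb hb1 c hc hc1
      by_contra hne
      have h3 : ({1, b, c} : Set K).ncard = 3 := by
        rw [Set.ncard_insert_of_notMem (by simp [hb1.symm, hc1.symm]),
          Set.ncard_pair (Ne.symm hne)]
      have hsub : ({1, b, c} : Set K) ⊆ ((P : Subgroup K) : Set K) := by
        rintro _ (rfl | rfl | rfl)
        exacts [(P : Subgroup K).one_mem, hb, hc]
      have := Set.ncard_le_ncard hsub
      rw [h3, ← Nat.card_coe_set_eq, show Nat.card ((P : Subgroup K) : Set K) = 2 from hP] at this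
      omega
    by_cases ha1 : a = 1
    · subst ha1; simp
    · exact ((mul_inv_eq_iff_eq_mul.1 (key a ha ha1 _ ((Subgroup.mem_normalizer_iff.1 hn a).1 ha)
        (by simpa using ha1))).symm)
  refine ⟨(MonoidHom.transferSylow P hc).ker, inferInstance, ?_⟩
  rw [(MonoidHom.ker_transferSylow_isComplement' P hc).symm.index_eq_card, hP]

variable {F : Type*} [Field F] [Fintype F]

local notation "S2" => Matrix.SpecialLinearGroup (Fin 2) F
local notation "M2" => Matrix (Fin 2) (Fin 2) F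
local notation "P2" => Matrix.ProjectiveSpecialLinearGroup (Fin 2) F

/-- The Weyl element. -/
noncomputable def weyl : P2 := proj (compSL 0)

theorem mem_borel_of_normalizes {y : P2}
    (h : y * stdUni * y⁻¹ ∈ cen (stdUni : P2)) : y ∈ borel F := by
  obtain ⟨y, rfl⟩ := proj_surjective y
  rw [stdUni, ← map_inv, ← map_mul, ← map_mul] at h
  have h10 := (mem_cen_stdUni.1 h).1
  rw [mem_borel_proj]
  simp [upSL_coe, SL_mul_entries, Matrix.adjugate_fin_two] at h10
  exact mul_self_eq_zero.1 (by linear_combination -h10)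

theorem bruhat (y : P2) : y ∈ borel F ∨ ∃ a ∈ borel F, ∃ b ∈ borel F, y = a * weyl * b := by
  obtain ⟨y, rfl⟩ := proj_surjective y
  by_cases hc : (y : M2) 1 0 = 0
  · exact Or.inl (mem_borel_proj.2 hc)
  · right
    obtain ⟨B, hB⟩ : ∃ B : S2,
        (B : M2) = !![(y : M2) 1 0, (y : M2) 1 1; 0, ((y : M2) 1 0)⁻¹] :=
      ⟨⟨_, by simp [Matrix.det_fin_two_of, hc]⟩, rfl⟩
    refine ⟨proj (upSL ((y : M2) 0 0 / (y : M2) 1 0)), ?_, proj B, mem_borel_proj.2 (by simp [hB]), ?_⟩
    · exact mem_borel_proj.2 (by simp [upSL_coe])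
    · rw [weyl, ← map_mul, ← map_mul]
      refine congrArg proj (SL_ext_two ?_ ?_ ?_ ?_) <;>
        simp [Matrix.mul_apply, Fin.sum_univ_two, upSL_coe, compSL_coe, hB, hc]
      have hd := SL_det_two y
      field_simp
      linear_combination -hd

omit [Fintype F] in
theorem stdUni_sq : (stdUni : P2) ^ 2 = proj (upSL 2) := by
  rw [stdUni, ← map_pow, pow_two]
  refine congrArg proj (SL_ext_two ?_ ?_ ?_ ?_) <;> simp [SL_mul_entries, upSL_coe]
  norm_num

omit [Fintype F] in
/-- Only square multiples of the standard unipotent element are conjugate to it. -/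
theorem isSquare_of_conj (h2 : (2 : F) ≠ 0) {g : P2} {k : F}
    (h : g * stdUni * g⁻¹ = proj (upSL k)) : IsSquare k := by
  obtain ⟨g, rfl⟩ := proj_surjective g
  rw [mul_inv_eq_iff_eq_mul, stdUni, ← map_mul, ← map_mul, proj_eq_iff] at h
  have hd := SL_det_two g
  rcases h with h | h
  · have e00 := congrArg (fun z : S2 => (z : M2) 0 0) h
    have e01 := congrArg (fun z : S2 => (z : M2) 0 1) h
    have e11 := congrArg (fun z : S2 => (z : M2) 1 1) h
    simp [SL_mul_entries, upSL_coe] at e00 e01 e11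
    refine ⟨(g : M2) 0 0, ?_⟩
    linear_combination ((g : M2) 0 0) * e01 - k * hd - k * ((g : M2) 0 1) * e11
  · have e00 := congrArg (fun z : S2 => (z : M2) 0 0) h
    have e10 := congrArg (fun z : S2 => (z : M2) 1 0) h
    simp [Matrix.mul_apply, Fin.sum_univ_two, upSL_coe] at e00 e10
    have hc : (g : M2) 1 0 = 0 := (mul_eq_zero.1
      (show (2 : F) * (g : M2) 1 0 = 0 by linear_combination e10)).resolve_left h2
    have ha : (g : M2) 0 0 = 0 := (mul_eq_zero.1
      (show (2 : F) * (g : M2) 0 0 = 0 by linear_combination e00 - k * hc)).resolve_left h2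
    rw [hc, ha] at hd
    simp at hd

omit [Fintype F] in
theorem stdUni_inv : (stdUni : P2)⁻¹ = proj (upSL (-1)) := by
  rw [stdUni, ← map_inv]
  refine congrArg proj (SL_ext_two ?_ ?_ ?_ ?_) <;> simp [upSL_coe, Matrix.adjugate_fin_two]

/-- The involution of the split torus when `-1` is a square. -/
theorem exists_borel_involution (h2 : (2 : F) ≠ 0) (hi : IsSquare (-1 : F)) :
    ∃ s ∈ borel F, orderOf s = 2 ∧ s * weyl = weyl * s ∧ s * stdUni * s⁻¹ = stdUni⁻¹ := by
  obtain ⟨i, hi⟩ := hi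
  have hi0 : i ≠ 0 := fun e => by rw [e, mul_zero] at hi; simp at hi
  have hinv : i⁻¹ = -i := inv_eq_of_mul_eq_one_right (by linear_combination hi)
  set c : Fˣ := Units.mk0 i hi0
  have hne : (proj (dSL c) : P2) ≠ 1 := fun h => by
    obtain ⟨-, -, h⟩ := proj_eq_one_iff.1 h
    simp [dSL_coe, c, hinv] at h
    exact hi0 ((mul_eq_zero.1 (show (2 : F) * i = 0 by linear_combination h)).resolve_left h2)
  refine ⟨proj (dSL c), mem_borel_proj.2 (by simp [dSL_coe]), orderOf_eq_prime ?_ hne, ?_, ?_⟩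
  · rw [← map_pow, ← map_one (proj (F := F)), proj_eq_iff]
    right
    refine SL_ext_two ?_ ?_ ?_ ?_ <;> simp [pow_two, dSL_coe, c, hinv]
    · linear_combination -hi
    · linear_combination -hi
  · rw [weyl, ← map_mul, ← map_mul, proj_eq_iff]
    right
    refine SL_ext_two ?_ ?_ ?_ ?_ <;> simp [SL_mul_entries, dSL_coe, compSL_coe, c, hinv]
  · rw [stdUni_inv, stdUni, ← map_inv, ← map_mul, ← map_mul]
    refine congrArg proj (SL_ext_two ?_ ?_ ?_ ?_) <;>
      simp [SL_mul_entries, dSL_coe, upSL_coe, Matrix.adjugate_fin_two, c, hinv]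
    · linear_combination hi
    · linear_combination -hi
    · linear_combination hi

/-- In odd characteristic an abelian subgroup of `q` elements of exponent `p` is a conjugate of the
standard one. -/
theorem exists_conj_le_cen (p : ℕ) [Fact p.Prime] [CharP F p] (hp : p ≠ 2) {U : Subgroup P2}
    (hne : U ≠ ⊥) (hpow : ∀ x ∈ U, x ^ p = 1) (hab : ∀ x ∈ U, ∀ y ∈ U, x * y = y * x) :
    ∃ g : P2, ∀ x ∈ U, g * x * g⁻¹ ∈ cen (stdUni : P2) := by
  obtain ⟨a, ha, ha1⟩ := U.bot_or_exists_ne_one.resolve_left hne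
  have hu : IsUni a := isUni_of_pow_char p (hpow a ha)
  obtain ⟨g, hg⟩ := exists_conj_stdUni ha1 hu
  have h2 : (2 : F) ≠ 0 := fun h => hp ((Nat.prime_dvd_prime_iff_eq Fact.out Nat.prime_two).1
    ((CharP.cast_eq_zero_iff F p 2).1 (by simpa using h)))
  have hasq : a * a ≠ 1 := fun h => ha1 (by
    obtain ⟨j, hj⟩ := (Fact.out : p.Prime).odd_of_ne_two hp
    have := hpow a ha
    rwa [hj, pow_succ, pow_mul, pow_two, h, one_pow, one_mul] at this)
  refine ⟨g, fun x hx => ?_⟩
  have hxa : x ∈ cen a := H91.RO.mem_cen_of_commute_of_sq h2 hasq (hab x hx a ha)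
  rw [← cen_eq_of_mem stdUni_ne_one (fun h => ha1 (conj_eq_one_iff.1 h)) hg, mem_cen_conj]
  exact hxa

/-- The exponents and orders of elements inverted by an involution in the two tori. -/
theorem exists_torus_pair (h5 : 5 < Fintype.card F)
    (h8 : Fintype.card F % 8 = 3 ∨ Fintype.card F % 8 = 5) :
    ∃ (a b i j : P2) (m n : ℕ), orderOf a = m ∧ orderOf b = n ∧ Odd m ∧ Odd n ∧ 1 < m ∧ 1 < n ∧
      m ≠ n ∧ Nat.Coprime m (Fintype.card F) ∧ Nat.Coprime n (Fintype.card F) ∧
      i * a * i⁻¹ = a⁻¹ ∧ j * b * j⁻¹ = b⁻¹ := by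
  set q := Fintype.card F with hq
  have hd : Nat.gcd 2 (q - 1) = 2 := Nat.gcd_eq_left (by omega)
  obtain ⟨a, hua, hca⟩ := exists_split (F := F) (by omega)
  obtain ⟨b, hub, hcb⟩ := exists_nonsplit (F := F)
  rw [hd] at hca hcb
  obtain ⟨i, -, -, -, hi⟩ := exists_torus_inverter hua
  obtain ⟨j, -, -, -, hj⟩ := exists_torus_inverter hub
  have gen : ∀ {c : P2} (_ : ¬ IsUni c) {d : ℕ}, d ∣ Nat.card (cen c) →
      ∃ y ∈ cen c, orderOf y = d := by
    intro c hc d hdvd
    haveI := isCyclic_cen hc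
    obtain ⟨x, hx⟩ := IsCyclic.exists_ofOrder_eq_natCard (α := cen c)
    refine ⟨_, (x ^ (Nat.card (cen c) / d)).2, ?_⟩
    rw [Subgroup.orderOf_coe, orderOf_pow_of_dvd ?_ ?_, hx, Nat.div_div_self hdvd Nat.card_pos.ne']
    · exact (Nat.div_pos (Nat.le_of_dvd Nat.card_pos hdvd)
        (Nat.pos_of_dvd_of_pos hdvd Nat.card_pos)).ne'
    · rw [hx]; exact Nat.div_dvd_of_dvd hdvd
  have hcop : ∀ d : ℕ, d ∣ q - 1 ∨ d ∣ q + 1 → Nat.Coprime d q := by
    intro d hd'
    rcases hd' with hd' | hd'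
    · refine Nat.Coprime.coprime_dvd_left hd' ?_
      have := Nat.coprime_self_add_right (m := q - 1) (n := 1)
      rw [show q - 1 + 1 = q by omega] at this
      exact this.2 (Nat.coprime_one_right _)
    · refine Nat.Coprime.coprime_dvd_left hd' ?_
      exact Nat.coprime_self_add_left.2 (Nat.coprime_one_left _)
  rcases h8 with h8 | h8
  · obtain ⟨x, hxc, hx⟩ := gen hua (dvd_refl _)
    obtain ⟨y, hyc, hy⟩ := gen hub (d := (q + 1) / 4) (hcb ▸ ⟨2, by omega⟩)
    rw [hca] at hx
    exact ⟨x, y, i, j, _, _, hx, hy, Nat.odd_iff.2 (by omega), Nat.odd_iff.2 (by omega), by omega,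
      by omega, by omega, hcop _ (Or.inl ⟨2, by omega⟩), hcop _ (Or.inr ⟨4, by omega⟩), hi _ hxc,
      hj _ hyc⟩
  · obtain ⟨x, hxc, hx⟩ := gen hua (d := (q - 1) / 4) (hca ▸ ⟨2, by omega⟩)
    obtain ⟨y, hyc, hy⟩ := gen hub (dvd_refl _)
    rw [hcb] at hy
    exact ⟨x, y, i, j, _, _, hx, hy, Nat.odd_iff.2 (by omega), Nat.odd_iff.2 (by omega), by omega,
      by omega, by omega, hcop _ (Or.inl ⟨4, by omega⟩), hcop _ (Or.inr ⟨2, by omega⟩), hi _ hxc,
      hj _ hyc⟩

end Cfsg.Agent.H88.GalFix
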