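import Cfsg.Agent.CharBasic.Complete
import Cfsg.Agent.CharBasic.Virtual
import Cfsg.Agent.CharBasic.Integral
import Cfsg.Agent.CharInduce.Twist
import Cfsg.Agent.H24.FSIndicator
import Cfsg.Agent.BlockBasic.Basic
import Cfsg.Agent.S0160

/-!
# Real characters of odd degree and the column of an involution

For an involution `t` and a subgroup `H` of odd order centralised by `t`, the sums `∑ h, χ (t * h)`
are nonzero multiples of `|H|` at the real irreducible characters of odd degree. So there are at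
most `|R|` of these, `R` a set of representatives of the double cosets of `H` in `C(t)`.
-/

set_option autoImplicit false

namespace Cfsg.Agent.H88.GalFix

open Cfsg.Agent Cfsg.Agent.CharBasic
open scoped ComplexConjugate

universe u

variable {G : Type u} [Group G]

/-- The real valued irreducible characters. -/
abbrev RealIrr (G : Type u) [Group G] : Type u :=
  {χ : Cfsg.IrrCharacter G // ∀ g : G, ((χ : G → ℂ) g).im = 0}

section Column

variable [Fintype G]

open scoped Classical in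
/-- The mean of a character over `H` and over the coset `t * H`, as two eigenspace dimensions. -/
theorem exists_two_dims {t : G} (ht : t * t = 1) (H : Subgroup G)
    (hHt : ∀ h ∈ H, Commute t h) {χ : G → ℂ} (hχ : Cfsg.IsCharacter G χ) :
    ∃ a b : ℕ, ∑ h : H, χ h = (Nat.card H : ℂ) * ((a : ℂ) + b) ∧
      ∑ h : H, χ (t * h) = (Nat.card H : ℂ) * ((a : ℂ) - b) := by
  obtain ⟨n, ρ, rfl⟩ := hχ
  have hN : (Nat.card H : ℂ) ≠ 0 := Nat.cast_ne_zero.2 Nat.card_pos.ne'
  set π : Module.End ℂ (Fin n → ℂ) := (Nat.card H : ℂ)⁻¹ • ∑ h : H, ρ h with hπ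
  set T : Module.End ℂ (Fin n → ℂ) := ρ t with hT
  have hmul : ∀ h : H, ρ h * π = π := fun h => by
    rw [hπ, mul_smul_comm, Finset.mul_sum]
    congr 1
    refine Fintype.sum_equiv (Equiv.mulLeft h) _ _ fun k => ?_
    simp
  have hππ : π * π = π := by
    nth_rewrite 1 [hπ]
    rw [smul_mul_assoc, Finset.sum_mul, Finset.sum_congr rfl (fun h _ => hmul h), Finset.sum_const,
      Finset.card_univ, ← Nat.card_eq_fintype_card, ← Nat.cast_smul_eq_nsmul ℂ, smul_smul,
      inv_mul_cancel₀ hN, one_smul]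
  have hTT : T * T = 1 := by rw [hT, ← map_mul, ht, map_one]
  have hTπ : T * π = π * T := by
    rw [hπ, mul_smul_comm, smul_mul_assoc, Finset.mul_sum, Finset.sum_mul]
    congr 1
    refine Finset.sum_congr rfl fun h _ => ?_
    rw [hT, ← map_mul, ← map_mul, (hHt h h.2).eq]
  have h1 : π * (T * π) = T * π := by rw [hTπ, ← mul_assoc, hππ]
  have h2 : T * π * π = T * π := by rw [mul_assoc, hππ]
  have h3 : T * π * (T * π) = π := by
    rw [mul_assoc, h1, ← mul_assoc, hTT, one_mul]
  have key : ∀ ε : ℂ, ε * ε = 1 → ∃ a : ℕ,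
      LinearMap.trace ℂ _ ((2 : ℂ)⁻¹ • (π + ε • (T * π))) = a := by
    intro ε hε
    clear_value π T
    set e := (2 : ℂ)⁻¹ • (π + ε • (T * π)) with he
    have hee : e * e = e := by
      rw [he]
      simp only [smul_mul_assoc, mul_smul_comm, add_mul, mul_add, smul_add, smul_smul, hππ, h1, h2,
        h3]
      match_scalars <;> grind
    have hproj : LinearMap.IsProj (LinearMap.range e) e :=
      ⟨fun x => ⟨x, rfl⟩, by rintro _ ⟨y, rfl⟩; exact LinearMap.congr_fun hee y⟩
    exact ⟨_, hproj.trace⟩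
  obtain ⟨a, ha⟩ := key 1 (one_mul 1)
  obtain ⟨b, hb⟩ := key (-1) (by norm_num)
  simp only [map_smul, map_add, smul_eq_mul] at ha hb
  have e1 : LinearMap.trace ℂ _ π = (Nat.card H : ℂ)⁻¹ * ∑ h : H, ρ.character h := by
    simp [hπ, Representation.character, map_sum, map_smul]
  have e2 : LinearMap.trace ℂ _ (T * π) = (Nat.card H : ℂ)⁻¹ * ∑ h : H, ρ.character (t * h) := by
    rw [hπ, mul_smul_comm, Finset.mul_sum, map_smul, map_sum, smul_eq_mul]
    congr 1
    refine Finset.sum_congr rfl fun h _ => ?_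
    simp [Representation.character, hT, map_mul]
  refine ⟨a, b, ?_, ?_⟩
  · rw [← ha, ← hb, e1]; field_simp; ring
  · rw [← ha, ← hb, e2]; field_simp; ring

open scoped Classical in
/-- For a real character of odd degree the fixed space of a subgroup of odd order has odd
dimension. -/
theorem odd_mean {H : Subgroup G} (hH : Odd (Nat.card H)) (χ : Cfsg.IrrCharacter G)
    (hreal : ∀ g : G, ((χ : G → ℂ) g).im = 0) (hodd : Odd (Cfsg.charDegree (χ : G → ℂ))) {m : ℕ}
    (hm : ∑ h : H, (χ : G → ℂ) h = (Nat.card H : ℂ) * m) : Odd m := by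
  set ψ : H → ℂ := fun h => (χ : G → ℂ) h with hψ
  have hc : Cfsg.IsCharacter H ψ := CharInduce.IsChar.res (IsIrr.isCharacter χ.2) H
  obtain ⟨k, hk, hsum⟩ := IsChar.exists_nat_mult hc
  have hψr : ∀ h, conj (ψ h) = ψ h := fun h => Complex.conj_eq_iff_im.2 (hreal _)
  have hdeg : Cfsg.charDegree (χ : G → ℂ) =
      ∑ θ : Cfsg.IrrCharacter H, k θ * Cfsg.charDegree (θ : H → ℂ) := by
    rw [← Nat.cast_inj (R := ℂ), ← BlockBasic.apply_one_eq_charDegree]
    have h1 := congrFun hsum 1
    simp only [Finset.sum_apply, Pi.smul_apply, smul_eq_mul, hψ, Subgroup.coe_one] at h1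
    rw [h1, Nat.cast_sum]
    exact Finset.sum_congr rfl fun θ _ => by
      rw [Nat.cast_mul, ← BlockBasic.apply_one_eq_charDegree]
  let one : Cfsg.IrrCharacter H := ⟨fun _ => 1, isIrrCharacter_one⟩
  let bar : Cfsg.IrrCharacter H → Cfsg.IrrCharacter H :=
    fun θ => ⟨fun h => conj ((θ : H → ℂ) h), CharInduce.IsIrr.conj θ.2⟩
  have hk1 : k one = m := by
    rw [← Nat.cast_inj (R := ℂ), ← hk, classInner_def]
    simp only [one, map_one, mul_one]
    rw [hm, inv_mul_cancel_left₀ (Nat.cast_ne_zero.2 Nat.card_pos.ne')]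
  have hd1 : Cfsg.charDegree (one : H → ℂ) = 1 := by simp [Cfsg.charDegree, one]
  have hkbar : ∀ θ, k (bar θ) = k θ := fun θ => by
    rw [← Nat.cast_inj (R := ℂ), ← hk, ← Complex.conj_natCast (k θ), ← hk, classInner_def,
      classInner_def, map_mul, map_inv₀, Complex.conj_natCast, map_sum]
    congr 1
    exact Finset.sum_congr rfl fun h _ => by simp [bar, map_mul, hψr]
  have hdbar : ∀ θ, Cfsg.charDegree (bar θ : H → ℂ) = Cfsg.charDegree (θ : H → ℂ) := fun θ => by
    simp [Cfsg.charDegree, bar]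
  have hrest : ((∑ θ ∈ Finset.univ.erase one, k θ * Cfsg.charDegree (θ : H → ℂ) : ℕ) : ZMod 2) = 0 := by
    rw [Nat.cast_sum]
    refine Finset.sum_involution (fun θ _ => bar θ) (fun θ _ => ?_) (fun θ hθ _ h => ?_)
      (fun θ hθ => ?_) (fun θ _ => ?_)
    · rw [hkbar, hdbar, ← two_mul]
      exact mul_eq_zero_of_left (by decide) _
    · exact (Finset.mem_erase.1 hθ).1 (Subtype.ext
        (CharInduce.eq_one_of_real_of_odd hH θ.2 fun g => congrFun (congrArg Subtype.val h) g))
    · refine Finset.mem_erase.2 ⟨fun h => (Finset.mem_erase.1 hθ).1 ?_, Finset.mem_univ _⟩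
      refine Subtype.ext (funext fun g => ?_)
      have := congrArg conj (congrFun (congrArg Subtype.val h) g)
      simpa [bar, one] using this
    · exact Subtype.ext (funext fun g => Complex.conj_conj _)
  rw [hdeg, ← Finset.add_sum_erase _ _ (Finset.mem_univ one), hk1, hd1, mul_one] at hodd
  have hev := (ZMod.natCast_eq_zero_iff_even (n := _)).1 hrest
  exact (Nat.odd_add.1 hodd).2 hev

open scoped Classical in
/-- The column bound, as a count. -/
theorem card_triples_le {t : G} (ht : orderOf t = 2) (H : Subgroup G) (hH : Odd (Nat.card H))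
    (hHt : ∀ h ∈ H, Commute t h) (R : Finset G)
    (hcov : ∀ x ∈ Subgroup.centralizer ({t} : Set G), ∃ r ∈ R, ∃ a ∈ H, ∃ b ∈ H, x = a * r * b) :
    ∑ h : H, ∑ h' : H, Nat.card {x : G // x * (t * (h' : G)) * x⁻¹ = t * h} ≤
      R.card * (Nat.card H * Nat.card H) := by
  have hsig : ∑ h : H, ∑ h' : H, Nat.card {x : G // x * (t * (h' : G)) * x⁻¹ = t * h} =
      Nat.card (Σ h : H, Σ h' : H, {x : G // x * (t * (h' : G)) * x⁻¹ = t * h}) := by
    rw [Nat.card_sigma]
    exact Finset.sum_congr rfl fun h _ => Nat.card_sigma.symm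
  have hpow : ∀ h : H, (t * (h : G)) ^ Nat.card H = t := fun h => by
    rw [(hHt h h.2).mul_pow, ← Subgroup.coe_pow, pow_card_eq_one', Subgroup.coe_one, mul_one]
    obtain ⟨j, hj⟩ := hH
    rw [hj, pow_succ, pow_mul, ← ht, pow_orderOf_eq_one, one_pow, one_mul]
  have hmem : ∀ (h h' : H) (x : G), x * (t * (h' : G)) * x⁻¹ = t * h →
      x ∈ Subgroup.centralizer ({t} : Set G) ∧ x * h' = h * x := by
    intro h h' x hx
    have hc : x * t * x⁻¹ = t := by
      have e := congrArg (· ^ Nat.card H) hx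
      simp only [conj_pow, hpow] at e
      exact e
    refine ⟨Subgroup.mem_centralizer_singleton_iff.2 (mul_inv_eq_iff_eq_mul.1 hc), ?_⟩
    rw [show x * (t * (h' : G)) * x⁻¹ = x * t * x⁻¹ * (x * h' * x⁻¹) by group, hc,
      mul_right_inj, mul_inv_eq_iff_eq_mul] at hx
    exact hx
  choose r hr a ha b hb hab using hcov
  let Φ : (Σ h : H, Σ h' : H, {x : G // x * (t * (h' : G)) * x⁻¹ = t * h}) → R × H × H :=
    fun p => (⟨r _ (hmem _ _ _ p.2.2.2).1, hr _ _⟩,
      p.1 * ⟨a _ (hmem _ _ _ p.2.2.2).1, ha _ _⟩,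
      ⟨b _ (hmem _ _ _ p.2.2.2).1, hb _ _⟩ * p.2.1⁻¹)
  have hΦ : Function.Injective Φ := by
    rintro ⟨h, h', x, hx⟩ ⟨k, k', y, hy⟩ he
    simp only [Φ, Prod.mk.injEq, Subtype.ext_iff, Subgroup.coe_mul,
      Subgroup.coe_inv] at he
    obtain ⟨e1, e2, e3⟩ := he
    obtain ⟨hxc, hxh⟩ := hmem h h' x hx
    obtain ⟨hyc, hyh⟩ := hmem k k' y hy
    have hxy : x = y := by
      calc x = (h : G) * x * (h' : G)⁻¹ := by rw [← hxh, mul_inv_cancel_right]
        _ = ((h : G) * a x hxc) * r x hxc * (b x hxc * (h' : G)⁻¹) := by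
          conv_lhs => rw [hab x hxc]
          group
        _ = ((k : G) * a y hyc) * r y hyc * (b y hyc * (k' : G)⁻¹) := by rw [e1, e2, e3]
        _ = (k : G) * y * (k' : G)⁻¹ := by
          conv_rhs => rw [hab y hyc]
          group
        _ = y := by rw [← hyh, mul_inv_cancel_right]
    subst hxy
    obtain rfl : h = k := Subtype.ext (mul_right_cancel e2)
    obtain rfl : h' = k' := Subtype.ext (inv_injective (mul_left_cancel e3))
    rfl
  calc _ = _ := hsig
    _ ≤ Nat.card (R × H × H) := Nat.card_le_card_of_injective Φ hΦ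
    _ = R.card * (Nat.card H * Nat.card H) := by
      rw [Nat.card_prod, Nat.card_prod, Nat.card_eq_fintype_card (α := R), Fintype.card_coe]

end Column

section Bound

variable [Finite G]

/-- If all real irreducible characters have odd degree, there are at most `|R|` of them. -/
theorem card_real_le {t : G} (ht : orderOf t = 2) (H : Subgroup G) (hH : Odd (Nat.card H))
    (hHt : ∀ h ∈ H, Commute t h) (R : Finset G)
    (hcov : ∀ x ∈ Subgroup.centralizer ({t} : Set G), ∃ r ∈ R, ∃ a ∈ H, ∃ b ∈ H, x = a * r * b)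
    (hodd : ∀ χ : RealIrr G, Odd (Cfsg.charDegree (χ.1 : G → ℂ))) :
    Nat.card (RealIrr G) ≤ R.card := by
  classical
  cases nonempty_fintype G
  have htt : t * t = 1 := by
    have := pow_orderOf_eq_one t
    rwa [ht, pow_two] at this
  set N := Nat.card H with hN
  let S : Cfsg.IrrCharacter G → ℂ := fun χ => ∑ h : H, (χ : G → ℂ) (t * h)
  have hsum : ((∑ χ : Cfsg.IrrCharacter G, Complex.normSq (S χ) : ℝ) : ℂ) =
      ((∑ h : H, ∑ h' : H, Nat.card {x : G // x * (t * (h' : G)) * x⁻¹ = t * h} : ℕ) : ℂ) := by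
    push_cast
    calc ∑ χ : Cfsg.IrrCharacter G, (Complex.normSq (S χ) : ℂ)
        = ∑ χ : Cfsg.IrrCharacter G, ∑ h : H, ∑ h' : H,
            (χ : G → ℂ) (t * h) * conj ((χ : G → ℂ) (t * h')) :=
          Finset.sum_congr rfl fun χ _ => by
            rw [← Complex.mul_conj, map_sum, Finset.sum_mul_sum]
      _ = ∑ h : H, ∑ h' : H, ∑ χ : Cfsg.IrrCharacter G,
            (χ : G → ℂ) (t * h) * conj ((χ : G → ℂ) (t * h')) := by
          rw [Finset.sum_comm]
          exact Finset.sum_congr rfl fun h _ => Finset.sum_comm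
      _ = _ := Finset.sum_congr rfl fun h _ => Finset.sum_congr rfl fun h' _ =>
          second_orthogonality_count _ _
  have hle : ∑ χ : Cfsg.IrrCharacter G, Complex.normSq (S χ) ≤ (R.card * (N * N) : ℕ) := by
    rw [Complex.ofReal_inj.1 (hsum.trans (Complex.ofReal_natCast _).symm)]
    exact_mod_cast card_triples_le ht H hH hHt R hcov
  have hlow : ∀ χ ∈ Finset.univ.filter (fun χ : Cfsg.IrrCharacter G => ∀ g : G, ((χ : G → ℂ) g).im = 0),
      ((N * N : ℕ) : ℝ) ≤ Complex.normSq (S χ) := by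
    intro χ hχ
    have hr := (Finset.mem_filter.1 hχ).2
    obtain ⟨a, b, h1, h2⟩ := exists_two_dims htt H hHt (IsIrr.isCharacter χ.2)
    have hm : Odd (a + b) := odd_mean hH χ hr (hodd ⟨χ, hr⟩) (by rw [h1]; push_cast; ring)
    have he : S χ = (((N : ℤ) * ((a : ℤ) - b) : ℤ) : ℂ) := by
      simp only [S, h2, hN]; push_cast; ring
    have hne : ((a : ℤ) - b) ≠ 0 := fun e => by
      have : a = b := by omega
      rw [this] at hm
      exact absurd (Even.add_self b) (Nat.not_even_iff_odd.2 hm)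
    have h1' : (1 : ℤ) ≤ ((a : ℤ) - b) * ((a : ℤ) - b) := mul_self_pos.2 hne
    have h2' : (N : ℤ) * N ≤ ((N : ℤ) * ((a : ℤ) - b)) * ((N : ℤ) * ((a : ℤ) - b)) := by
      nlinarith [sq_nonneg (N : ℤ)]
    rw [he, ← Complex.ofReal_intCast, Complex.normSq_ofReal]
    exact_mod_cast h2'
  have h3 := (Finset.card_nsmul_le_sum _ _ _ hlow).trans ((Finset.sum_le_sum_of_subset_of_nonneg
    (Finset.filter_subset _ _) fun χ _ _ => Complex.normSq_nonneg _).trans hle)
  rw [nsmul_eq_mul, ← Nat.cast_mul, Nat.cast_le] at h3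
  rw [Nat.card_eq_fintype_card, Fintype.card_subtype]
  exact Nat.le_of_mul_le_mul_right h3 (Nat.mul_pos Nat.card_pos Nat.card_pos)

/-- Pairwise non-conjugate real elements are at most as many as the real characters. -/
theorem le_card_real {n : ℕ} (s : Fin n → G) (hreal : ∀ i, IsConj (s i) (s i)⁻¹)
    (hne : ∀ i j, i ≠ j → ¬ IsConj (s i) (s j)) : n ≤ Nat.card (RealIrr G) := by
  rw [S0160.result]
  have := Nat.card_le_card_of_injective
    (fun i => (⟨ConjClasses.mk (s i), fun g hg => ?_⟩ :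
      {C : ConjClasses G // ∀ g : G, ConjClasses.mk g = C → IsConj g g⁻¹})) (fun i j hij => ?_)
  · simpa using this
  · obtain ⟨c, hc⟩ := isConj_iff.1 (ConjClasses.mk_eq_mk_iff_isConj.1 hg)
    have h2 : IsConj g⁻¹ (s i)⁻¹ := isConj_iff.2 ⟨c, by rw [← hc]; group⟩
    exact ((isConj_iff.2 ⟨c, hc⟩).trans (hreal i)).trans h2.symm
  · by_contra h
    exact hne i j h (ConjClasses.mk_eq_mk_iff_isConj.1 (congrArg Subtype.val hij))

/-- The number of involutions against the degrees of the real characters. -/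
theorem sq_succ_index_le {t : G} (ht : orderOf t = 2) :
    ((Subgroup.centralizer ({t} : Set G)).index + 1) ^ 2 ≤ Nat.card (RealIrr G) * Nat.card G := by
  classical
  cases nonempty_fintype G
  set I := (Subgroup.centralizer ({t} : Set G)).index
  have htt : t * t = 1 := by
    have := pow_orderOf_eq_one t
    rwa [ht, pow_two] at this
  have hI : I + 1 ≤ Nat.card {s : G // s * s = 1} := by
    have hc : Nat.card (Option {x : G // IsConj t x}) = I + 1 := by
      rw [Finite.card_option, card_conjugates_eq_index]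
    rw [← hc]
    refine Nat.card_le_card_of_injective (fun o => o.elim (⟨1, one_mul 1⟩ : {s : G // s * s = 1})
      fun x => ⟨x.1, ?_⟩) ?_
    · obtain ⟨c, hc⟩ := isConj_iff.1 x.2
      rw [← hc, show c * t * c⁻¹ * (c * t * c⁻¹) = c * (t * t) * c⁻¹ by group, htt]
      group
    · have hone : ∀ x : {x : G // IsConj t x}, (x : G) ≠ 1 := fun x e => by
        have h1 := isConj_iff.1 (e ▸ x.2 : IsConj t 1)
        obtain ⟨c, hc⟩ := h1
        rw [conj_eq_one_iff] at hc
        rw [hc, orderOf_one] at ht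
        omega
      rintro (_ | x) (_ | y) h <;> simp only [Option.elim, Subtype.mk.injEq] at h
      · rfl
      · exact absurd h.symm (hone y)
      · exact absurd h (hone x)
      · exact congrArg some (Subtype.ext h)
  set Rl := Finset.univ.filter (fun χ : Cfsg.IrrCharacter G => ∀ g : G, ((χ : G → ℂ) g).im = 0)
  have hd : (Nat.card {s : G // s * s = 1} : ℝ) ≤
      ∑ χ ∈ Rl, (Cfsg.charDegree (χ : G → ℂ) : ℝ) := by
    have hfs := H24.FS.card_sqrt (1 : G)
    calc (Nat.card {s : G // s * s = 1} : ℝ) = ‖(Nat.card {s : G // s * s = 1} : ℂ)‖ := by simp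
      _ ≤ ∑ χ : Cfsg.IrrCharacter G, ‖conj (H24.FS.ind (χ : G → ℂ)) * (χ : G → ℂ) 1‖ := by
        rw [hfs]; exact norm_sum_le _ _
      _ = ∑ χ ∈ Rl, ‖conj (H24.FS.ind (χ : G → ℂ)) * (χ : G → ℂ) 1‖ := by
        refine (Finset.sum_subset (Finset.filter_subset _ _) fun χ _ hχ => ?_).symm
        simp only [Finset.mem_filter, Finset.mem_univ, true_and] at hχ
        simp [H24.FS.ind_eq_zero χ.2 hχ]
      _ ≤ _ := by
        refine Finset.sum_le_sum fun χ _ => ?_
        rw [norm_mul, RCLike.norm_conj, BlockBasic.apply_one_eq_charDegree, Complex.norm_natCast]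
        exact mul_le_of_le_one_left (Nat.cast_nonneg _) (H24.FS.norm_ind_le χ.2)
  have hd' : I + 1 ≤ ∑ χ ∈ Rl, Cfsg.charDegree (χ : G → ℂ) := hI.trans (by exact_mod_cast hd)
  have hsq : ∑ χ : Cfsg.IrrCharacter G, Cfsg.charDegree (χ : G → ℂ) ^ 2 = Nat.card G := by
    rw [← Nat.cast_inj (R := ℂ), Nat.cast_sum, ← sum_sq_degree]
    exact Finset.sum_congr rfl fun χ _ => by
      rw [Nat.cast_pow, ← BlockBasic.apply_one_eq_charDegree]
  calc (I + 1) ^ 2 ≤ (∑ χ ∈ Rl, Cfsg.charDegree (χ : G → ℂ)) ^ 2 := Nat.pow_le_pow_left hd' 2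
    _ ≤ Rl.card * ∑ χ ∈ Rl, Cfsg.charDegree (χ : G → ℂ) ^ 2 := sq_sum_le_card_mul_sum_sq
    _ ≤ Rl.card * Nat.card G :=
      Nat.mul_le_mul_left _ (hsq ▸ Finset.sum_le_sum_of_subset (Finset.filter_subset _ _))
    _ = _ := by rw [Nat.card_eq_fintype_card (α := RealIrr G), Fintype.card_subtype]

/-- Some real irreducible character has even degree. -/
theorem exists_real_even {t : G} (ht : orderOf t = 2) (H : Subgroup G) (hH : Odd (Nat.card H))
    (hHt : ∀ h ∈ H, Commute t h) (R : Finset G)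
    (hcov : ∀ x ∈ Subgroup.centralizer ({t} : Set G), ∃ r ∈ R, ∃ a ∈ H, ∃ b ∈ H, x = a * r * b)
    (hlarge : R.card < Nat.card (RealIrr G) ∨
      R.card * Nat.card G < ((Subgroup.centralizer ({t} : Set G)).index + 1) ^ 2) :
    ∃ χ : Cfsg.IrrCharacter G, Even (Cfsg.charDegree (χ : G → ℂ)) ∧
      ∀ g : G, ((χ : G → ℂ) g).im = 0 := by
  by_contra hno
  have hle := card_real_le ht H hH hHt R hcov fun χ =>
    Nat.not_even_iff_odd.1 fun he => hno ⟨χ.1, he, χ.2⟩
  rcases hlarge with h | h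
  · omega
  · exact absurd ((sq_succ_index_le ht).trans (Nat.mul_le_mul_right _ hle)) (not_le.2 h)

end Bound

end Cfsg.Agent.H88.GalFix
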