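import Cfsg.Agent.H81.TwistBlock
import Cfsg.Agent.CharBasic.Orth

/-!
# The twist inverting the odd parts and fixing the 2-parts

The principal 2-block of a group of even order has a non-trivial member fixed by this twist; if the
2-elements are involutions the twist is inversion, so that the fixed characters are the real ones.
-/

set_option autoImplicit false
set_option linter.style.haveILetI false

namespace Cfsg.Agent.H88.GalFix

open Cfsg.Agent Cfsg.Agent.BlockBasic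

universe u

variable {G : Type u} [Group G] [Finite G] {k : ℕ}

theorem coprime_of_twist (hk₁ : ∀ g : G, (∃ j : ℕ, orderOf g = 2 ^ j) → g ^ k = g)
    (hk₂ : ∀ g : G, Odd (orderOf g) → g ^ k = g⁻¹) : Nat.Coprime k (Nat.card G) := by
  refine Nat.coprime_of_dvd fun q hq hqk hqG => ?_
  haveI := Fact.mk hq
  obtain ⟨g, hg⟩ := exists_prime_orderOf_dvd_card' (G := G) q hqG
  have hgk : g ^ k = 1 := orderOf_dvd_iff_pow_eq_one.1 (hg ▸ hqk)
  have hg1 : g = 1 := by
    rcases hq.eq_two_or_odd' with rfl | ho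
    · rwa [hk₁ g ⟨1, by rw [hg, pow_one]⟩] at hgk
    · rw [hk₂ g (hg ▸ ho)] at hgk; exact inv_eq_one.1 hgk
  rw [hg1, orderOf_one] at hg
  exact hq.one_lt.ne hg

theorem exists_two_parts (g : G) : ∃ x y : G, x * y = g ∧ Commute x y ∧
    (∃ j : ℕ, orderOf x = 2 ^ j) ∧ Odd (orderOf y) := by
  haveI : Fact (Nat.Prime 2) := ⟨Nat.prime_two⟩
  obtain ⟨y, hy, hc, hj, hn⟩ := isPPart_pPart (p := 2) g
  exact ⟨pPart (p := 2) g, y, hy, hc, hj, Nat.odd_iff.2 (Nat.two_dvd_ne_zero.1 hn)⟩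

theorem twist_twist (hk₁ : ∀ g : G, (∃ j : ℕ, orderOf g = 2 ^ j) → g ^ k = g)
    (hk₂ : ∀ g : G, Odd (orderOf g) → g ^ k = g⁻¹) (g : G) : (g ^ k) ^ k = g := by
  obtain ⟨x, y, rfl, hc, hj, ho⟩ := exists_two_parts g
  rw [hc.mul_pow, hk₁ x hj, hk₂ y ho, hc.inv_right.mul_pow, hk₁ x hj,
    hk₂ y⁻¹ (by rwa [orderOf_inv]), inv_inv]

theorem twist_eq_inv (hk₁ : ∀ g : G, (∃ j : ℕ, orderOf g = 2 ^ j) → g ^ k = g)
    (hk₂ : ∀ g : G, Odd (orderOf g) → g ^ k = g⁻¹)
    (helem : ∀ g : G, (∃ j : ℕ, orderOf g = 2 ^ j) → g * g = 1) (g : G) : g ^ k = g⁻¹ := by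
  obtain ⟨x, y, rfl, hc, hj, ho⟩ := exists_two_parts g
  rw [hc.mul_pow, hk₁ x hj, hk₂ y ho, hc.eq, mul_inv_rev,
    inv_eq_of_mul_eq_one_right (helem x hj)]

/-- The principal 2-block has a second fixed member. -/
theorem exists_fixed_in_block {M : Ideal Cfsg.AlgInt} (hM : Cfsg.IsPModular 2 M)
    (hev : Even (Nat.card G)) (hk₁ : ∀ g : G, (∃ j : ℕ, orderOf g = 2 ^ j) → g ^ k = g)
    (hk₂ : ∀ g : G, Odd (orderOf g) → g ^ k = g⁻¹) :
    ∃ χ ∈ Cfsg.principalBlock M G, (χ : G → ℂ) ≠ (fun _ => 1) ∧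
      ∀ g : G, (χ : G → ℂ) (g ^ k) = (χ : G → ℂ) g := by
  have hk := coprime_of_twist hk₁ hk₂
  let α := {χ : Cfsg.IrrCharacter G //
    χ ∈ Cfsg.principalBlock M G ∧ Odd (Cfsg.charDegree (χ : G → ℂ))}
  let f : α → α := fun a => ⟨H81.powIrr hk a.1, H81.powIrr_mem_principalBlock hk a.2.1,
    by rw [H81.charDegree_powIrr]; exact a.2.2⟩
  have hf : f^[2 ^ 1] = id := funext fun a => Subtype.ext (Subtype.ext (funext fun g => by
    show (a.1 : G → ℂ) ((g ^ k) ^ k) = (a.1 : G → ℂ) g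
    rw [twist_twist hk₁ hk₂]))
  have hev' : Even (Nat.card α) :=
    H81.even_card_odd_degree hM hev (isPBlock_principalBlock M)
  have hfix : Even (Nat.card {a : α // f a = a}) := by
    rw [Nat.even_iff] at hev' ⊢
    rw [← hev']
    exact H81.card_fixed_modEq f 1 hf
  by_contra hno
  push Not at hno
  have htriv : (trivialIrr : Cfsg.IrrCharacter G) ∈ Cfsg.principalBlock M G :=
    sameBlock_refl hM _
  let a₀ : {a : α // f a = a} := ⟨⟨trivialIrr, htriv, by simp [Cfsg.charDegree, trivialIrr]⟩,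
    Subtype.ext (Subtype.ext rfl)⟩
  have hone : Nat.card {a : α // f a = a} = 1 := by
    refine Nat.card_eq_one_iff_unique.2 ⟨⟨fun a b => ?_⟩, ⟨a₀⟩⟩
    have key : ∀ c : {a : α // f a = a}, (c.1.1 : G → ℂ) = fun _ => 1 := fun c => by
      by_contra hc
      obtain ⟨g, hg⟩ := hno c.1.1 c.1.2.1 hc
      exact hg (congrFun (congrArg Subtype.val (congrArg Subtype.val c.2)) g)
    exact Subtype.ext (Subtype.ext (Subtype.ext ((key a).trans (key b).symm)))
  rw [hone] at hfix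
  exact Nat.not_even_one hfix

end Cfsg.Agent.H88.GalFix
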