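import Cfsg.Agent.H88.GalFix.TypeR
import Cfsg.Agent.H88.GalFix.Twist
import Cfsg.Agent.H10.Walter.Final
import Cfsg.Agent.S0448
import Cfsg.Agent.S0253
import Cfsg.Agent.S2119

/-!
# Galois fixed characters of the simple groups with abelian Sylow 2-subgroups
-/

set_option autoImplicit false
set_option linter.style.haveILetI false
set_option linter.unusedSectionVars false

namespace Cfsg.Agent.H88.GalFix

open Subgroup Cfsg.Agent
open Cfsg.Agent.H50.Walter (RData)

universe u

local instance fact_two_galFix : Fact (Nat.Prime 2) := ⟨Nat.prime_two⟩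

/-- The elements of `2`-power order square to one. -/
def ElemTwo (G : Type*) [Group G] : Prop :=
  ∀ g : G, (∃ j : ℕ, orderOf g = 2 ^ j) → g * g = 1

theorem exists_sylow_mem {G : Type*} [Group G] {g : G}
    (hg : ∃ j : ℕ, orderOf g = 2 ^ j) : ∃ T : Sylow 2 G, g ∈ (T : Subgroup G) := by
  obtain ⟨j, hj⟩ := hg
  obtain ⟨T, hT⟩ := (IsPGroup.of_card (G := zpowers g) (p := 2) (n := j)
    (by rw [Nat.card_zpowers, hj])).exists_le_sylow
  exact ⟨T, hT (mem_zpowers g)⟩

theorem elemTwo_of_sylow {G : Type*} [Group G]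
    (h : ∀ T : Sylow 2 G, ∀ x ∈ (T : Subgroup G), x * x = 1) : ElemTwo G := fun g hg => by
  obtain ⟨T, hT⟩ := exists_sylow_mem hg
  exact h T g hT

theorem elemTwo_of_equiv {G L : Type*} [Group G] [Group L] (e : G ≃* L) (h : ElemTwo L) :
    ElemTwo G := fun g hg => e.injective (by
  rw [map_mul, map_one]; exact h (e g) (by rwa [e.orderOf_eq]))

theorem elemTwo_psl_even {F : Type} [Field F] [Fintype F] {n : ℕ} (hn : 1 ≤ n)
    (hq : Fintype.card F = 2 ^ n) :
    ElemTwo (Matrix.ProjectiveSpecialLinearGroup (Fin 2) F) := by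
  haveI : CharP F 2 := by
    obtain ⟨p, hchar⟩ := CharP.exists F
    obtain ⟨m, hp, hm⟩ := FiniteField.card F p
    obtain rfl : p = 2 := (Nat.prime_dvd_prime_iff_eq hp Nat.prime_two).1
      (hp.dvd_of_dvd_pow (hq ▸ hm.symm ▸ dvd_pow_self p m.ne_zero : p ∣ 2 ^ n))
    exact hchar
  refine elemTwo_of_sylow fun T x hx => ?_
  obtain ⟨hcard, y, -, hy⟩ := H21.Walter.exists_cyc_even T
  obtain ⟨z, hz⟩ := exists_prime_orderOf_dvd_card' (G := ↥(T : Subgroup (Matrix.ProjectiveSpecialLinearGroup (Fin 2) F))) 2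
    (by rw [hcard, hq]; exact dvd_pow_self 2 (by omega))
  rw [← Subgroup.orderOf_coe] at hz
  by_cases hx1 : x = 1
  · rw [hx1, one_mul]
  · obtain ⟨k, hk⟩ := hy _ z.2 x hx (fun e => by rw [e, orderOf_one] at hz; omega) hx1
    have hzz := pow_orderOf_eq_one
      (z : Matrix.ProjectiveSpecialLinearGroup (Fin 2) F)
    rw [hz, pow_two] at hzz
    rw [← hk, conj_mul, hzz, mul_one, mul_inv_cancel]

variable {G : Type u} [Group G] [Finite G]

theorem typeR_case [IsSimpleGroup G] (hab : H10.Walter.AbSyl G) (hR : H10.Walter.IsTypeR G) :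
    ∃ χ : Cfsg.IrrCharacter G, Even (Cfsg.charDegree (χ : G → ℂ)) ∧
      ∀ g : G, ((χ : G → ℂ) g).im = 0 := by
  obtain ⟨h8, -, t, E, E₀, ht, hprod, hle, hnorm, hpsl, hcent⟩ := hR
  obtain ⟨F, _, _, h5, hq, ⟨e⟩⟩ := id hpsl
  have h : RData t E E₀ := ⟨ht, hprod, hle, hnorm, hpsl, hcent⟩
  have h16 := H50.Walter.not_sixteen h8
  set f := E₀.subtype.comp e.symm.toMonoidHom with hf_def
  have hf : Function.Injective f := E₀.subtype_injective.comp e.symm.injective
  have hrange : f.range = E₀ := by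
    refine le_antisymm ?_ fun x hx => ⟨e ⟨x, hx⟩, by simp [hf_def]⟩
    rintro _ ⟨x, rfl⟩
    exact (e.symm x).2
  rcases hq with hq | hq
  · exact exists_real_even_three h f hf hrange h16 h5 hq
  rcases h5.lt_or_eq with h5 | h5
  · exact exists_real_even_five h f hf hrange h16 h5 hq
  obtain ⟨H, hH, hHt, R, hR, hcov⟩ := cover_five h f hf hrange h16 hq
  obtain ⟨e5⟩ := S0253.result h5.symm
  haveI := hnorm
  set N := E₀.subgroupOf E with hN
  have eN : ↥N ≃* alternatingGroup (Fin 5) := ((subgroupOfEquivOfLe hle).trans e).trans e5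
  have hinj : Function.Injective (MulAut.conjNormal : ↥E →* MulAut ↥N) := by
    rw [injective_iff_map_eq_one]
    intro x hx
    have hmem : (x : G) ∈ E ⊓ centralizer (E₀ : Set G) := ⟨x.2, mem_centralizer_iff.mpr fun y hy => by
      have h1 := congrArg (fun σ : MulAut ↥N => ((σ ⟨⟨y, hle hy⟩, hy⟩ : ↥E) : G)) hx
      simp only [MulAut.conjNormal_apply, MulAut.one_apply, Subgroup.coe_mul, Subgroup.coe_inv] at h1
      exact (mul_inv_eq_iff_eq_mul.mp h1).symm⟩
    rw [hcent, mem_bot] at hmem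
    exact Subtype.ext hmem
  have h60 : Nat.card ↥N = 60 := by
    rw [Nat.card_congr eN.toEquiv]
    exact Linear.Dickson.card_alt_five
  have hdvd : Nat.card ↥E ∣ 120 := by
    have := Subgroup.card_dvd_of_injective _ hinj
    rwa [Nat.card_congr (MulAut.congr eN).toEquiv, H91.RO.card_mulAut_alt_five] at this
  obtain ⟨k, hk⟩ := h.odd_relIndex h16
  have hE : Nat.card ↥E = 60 := by
    have h1 := N.card_mul_index
    rw [h60, show N.index = 2 * k + 1 from hk] at h1
    have h2 := Nat.le_of_dvd (by norm_num) hdvd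
    omega
  have hNtop : N = ⊤ := eq_top_of_card_eq N (by rw [h60, hE])
  have eE : ↥E ≃* alternatingGroup (Fin 5) :=
    (Subgroup.topEquiv.symm.trans (MulEquiv.subgroupCongr hNtop.symm)).trans eN
  obtain ⟨ee⟩ := H54.Classes.exists_equiv_prod hprod
  haveI : IsCyclic (zpowers t) := isCyclic_zpowers t
  have eZ : ↥(zpowers t) ≃* Multiplicative (ZMod 2) :=
    mulEquivOfCyclicCardEq (by rw [Nat.card_zpowers, ht, Nat.card_congr Multiplicative.toAdd, Nat.card_zmod])
  obtain ⟨T, hT⟩ := exists_sylow_mem (g := t) ⟨1, by rw [ht, pow_one]⟩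
  have hJ := S0448.result t ⟨ht, T, hT, fun u hu => (hab.comm T.isPGroup' hu hT).eq⟩
    (ee.symm.trans (eZ.prodCongr eE))
  have hC : Nat.card ↥(centralizer ({t} : Set G)) = 120 := by
    rw [← Nat.card_congr ee.toEquiv, Nat.card_prod, Nat.card_zpowers, ht, hE]
  have hI := (centralizer ({t} : Set G)).card_mul_index
  rw [hC, hJ.2] at hI
  refine exists_real_even ht H hH hHt R hcov (Or.inr ?_)
  rw [hJ.2, show (centralizer ({t} : Set G)).index = 1463 by omega]
  omega

theorem exists_real_even_of_shape [IsSimpleGroup G] (hna : ¬ IsMulCommutative G)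
    (hab : H10.Walter.AbSyl G) :
    ElemTwo G ∧ ∃ χ : Cfsg.IrrCharacter G, Even (Cfsg.charDegree (χ : G → ℂ)) ∧
      ∀ g : G, ((χ : G → ℂ) g).im = 0 := by
  rcases H10.Walter.walterHyp G inferInstance hna hab with
    ⟨F, _, _, n, hn, hq, ⟨e⟩⟩ | ⟨F, _, _, h5, h8, ⟨e⟩⟩ | hR
  · exact ⟨elemTwo_of_equiv e (elemTwo_psl_even (by omega) hq),
      exists_real_even_of_equiv e (exists_real_even_psl_even hn hq)⟩
  · exact ⟨elemTwo_of_equiv e (elemTwo_of_sylow fun T => H50.Walter.Odd.elem h8 T),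
      exists_real_even_of_equiv e (exists_real_even_psl_odd h5 h8)⟩
  · exact ⟨elemTwo_of_sylow (H50.Walter.typeR_facts hna hab hR).1.elem, typeR_case hab hR⟩

end Cfsg.Agent.H88.GalFix
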