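import Cfsg.Agent.H88.GalFix.Bound
import Cfsg.Agent.H88.Walter.PiecePSL
import Cfsg.Agent.H50.Walter.PieceOdd
import Cfsg.Agent.H21.Walter.ShapeEven

/-!
# Real irreducible characters of even degree of `PSL₂`

The counting bound with `H` the odd part of the centraliser of an involution.
-/

set_option autoImplicit false
set_option linter.style.haveILetI false

namespace Cfsg.Agent.H88.GalFix

open Cfsg.Agent Subgroup
open Cfsg.Agent.Linear Cfsg.Agent.Linear.Dickson

/-- A set of coset representatives covers. -/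
theorem exists_reps {G : Type*} [Group G] [Finite G] {H C : Subgroup G} (hle : H ≤ C) :
    ∃ R : Finset G, R.card * Nat.card H ≤ Nat.card C ∧
      ∀ x ∈ C, ∃ r ∈ R, ∃ a ∈ H, ∃ b ∈ H, x = a * r * b := by
  classical
  haveI := Fintype.ofFinite (C ⧸ H.subgroupOf C)
  refine ⟨Finset.univ.image fun q : C ⧸ H.subgroupOf C => (q.out : G), ?_, fun x hx => ?_⟩
  · refine (Nat.mul_le_mul_right _ Finset.card_image_le).trans (le_of_eq ?_)
    rw [Finset.card_univ, ← Nat.card_eq_fintype_card, ← index_eq_card,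
      ← Nat.card_congr (subgroupOfEquivOfLe hle).toEquiv, index_mul_card]
  · refine ⟨_, Finset.mem_image_of_mem _ (Finset.mem_univ (⟦⟨x, hx⟩⟧ : C ⧸ H.subgroupOf C)), 1,
      H.one_mem, _, ?_, (by rw [one_mul, mul_inv_cancel_left] :
        x = 1 * (((⟦⟨x, hx⟩⟧ : C ⧸ H.subgroupOf C).out : C) : G) *
          ((((⟦⟨x, hx⟩⟧ : C ⧸ H.subgroupOf C).out : C) : G)⁻¹ * x))⟩
    have h := QuotientGroup.eq.1 (QuotientGroup.out_eq' (⟦⟨x, hx⟩⟧ : C ⧸ H.subgroupOf C))
    simpa [mem_subgroupOf] using h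

/-- Transport of a real character of even degree along an isomorphism. -/
theorem exists_real_even_of_equiv {G L : Type*} [Group G] [Group L] [Finite G] [Finite L]
    (e : G ≃* L)
    (h : ∃ χ : Cfsg.IrrCharacter L, Even (Cfsg.charDegree (χ : L → ℂ)) ∧
      ∀ g : L, ((χ : L → ℂ) g).im = 0) :
    ∃ χ : Cfsg.IrrCharacter G, Even (Cfsg.charDegree (χ : G → ℂ)) ∧
      ∀ g : G, ((χ : G → ℂ) g).im = 0 := by
  obtain ⟨χ, he, hr⟩ := h
  refine ⟨⟨_, CharInduce.IsIrr.comp χ.2 e.toMonoidHom e.surjective⟩, ?_, fun g => hr _⟩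
  simpa [Cfsg.charDegree] using he

variable {F : Type} [Field F] [Fintype F]

local notation "S2" => Matrix.SpecialLinearGroup (Fin 2) F
local notation "M2" => Matrix (Fin 2) (Fin 2) F
local notation "P2" => Matrix.ProjectiveSpecialLinearGroup (Fin 2) F

theorem exists_real_even_psl_even {n : ℕ} (hn : 2 ≤ n) (hq : Fintype.card F = 2 ^ n) :
    ∃ χ : Cfsg.IrrCharacter P2, Even (Cfsg.charDegree (χ : P2 → ℂ)) ∧
      ∀ g : P2, ((χ : P2 → ℂ) g).im = 0 := by
  haveI : CharP F 2 := by
    haveI : Fact (Nat.Prime 2) := ⟨Nat.prime_two⟩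
    obtain ⟨p, hchar⟩ := CharP.exists F
    obtain ⟨m, hp, hm⟩ := FiniteField.card F p
    obtain rfl : p = 2 := (Nat.prime_dvd_prime_iff_eq hp Nat.prime_two).1
      (hp.dvd_of_dvd_pow (hq ▸ hm.symm ▸ dvd_pow_self p m.ne_zero : p ∣ 2 ^ n))
    exact hchar
  set v : P2 := stdUni
  have hv : orderOf v = 2 := by
    haveI : Fact (Nat.Prime 2) := ⟨Nat.prime_two⟩
    exact orderOf_eq_prime (pow_char_eq_one_of_isUni 2 isUni_stdUni) stdUni_ne_one
  have hC : centralizer ({v} : Set P2) = cen v := by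
    obtain ⟨z, hz⟩ := proj_surjective v
    refine le_antisymm (fun y hy => ?_) fun y hy => ?_
    · obtain ⟨y, rfl⟩ := proj_surjective y
      rw [← hz, mem_cen_proj]
      rw [← hz, mem_centralizer_singleton_iff, ← map_mul, ← map_mul, proj_eq_iff] at hy
      rw [mem_centralizer_singleton_iff]
      rcases hy with hy | hy
      · exact hy.symm
      · refine (Matrix.SpecialLinearGroup.ext (z * y) (y * z) fun i j => ?_).symm
        rw [hy, Matrix.SpecialLinearGroup.coe_neg, Matrix.neg_apply, CharTwo.neg_eq]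
    · exact mem_centralizer_singleton_iff.2 (cen_comm stdUni_ne_one hy (mem_cen_self v))
  have hcC : Nat.card (centralizer ({v} : Set P2)) = Fintype.card F := by
    rw [hC]; exact card_cen_stdUni
  obtain ⟨R, hR, hcov⟩ := exists_reps (bot_le : ⊥ ≤ centralizer ({v} : Set P2))
  rw [Subgroup.card_bot, mul_one, hcC] at hR
  refine exists_real_even hv ⊥ (by simp) (fun h hh => by
    rw [mem_bot.1 hh]; exact Commute.one_right v) R hcov (Or.inr ?_)
  have hq4 : 4 ≤ Fintype.card F := hq ▸ (Nat.pow_le_pow_right two_pos hn : 2 ^ 2 ≤ 2 ^ n)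
  have hgcd : Nat.gcd 2 (Fintype.card F - 1) = 1 := by
    have h2 : Fintype.card F % 2 = 0 := by
      rw [hq]; exact Nat.even_iff.1 (Nat.even_pow.2 ⟨even_two, by omega⟩)
    exact (Nat.coprime_two_left.2 (Nat.odd_iff.2 (by omega))).gcd_eq_one
  have hG := card_PSL_two_mul (F := F)
  rw [hgcd, one_mul] at hG
  have hI := (centralizer ({v} : Set P2)).card_mul_index
  rw [hcC, hG] at hI
  rw [hG, Nat.eq_of_mul_eq_mul_left (by omega) hI]
  have h1 : 1 ≤ Fintype.card F ^ 2 := Nat.one_le_pow _ _ (by omega)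
  rw [Nat.sub_add_cancel h1]
  calc R.card * (Fintype.card F * (Fintype.card F ^ 2 - 1))
      ≤ Fintype.card F * (Fintype.card F * (Fintype.card F ^ 2 - 1)) := Nat.mul_le_mul_right _ hR
    _ = Fintype.card F ^ 2 * (Fintype.card F ^ 2 - 1) := by ring
    _ < Fintype.card F ^ 2 * Fintype.card F ^ 2 :=
      Nat.mul_lt_mul_of_pos_left (by omega) (by omega)
    _ = _ := (sq _).symm

theorem exists_real_even_psl_odd (h5 : 5 ≤ Fintype.card F)
    (h8 : Fintype.card F % 8 = 3 ∨ Fintype.card F % 8 = 5) :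
    ∃ χ : Cfsg.IrrCharacter P2, Even (Cfsg.charDegree (χ : P2 → ℂ)) ∧
      ∀ g : P2, ((χ : P2 → ℂ) g).im = 0 := by
  have hodd : Odd (Fintype.card F) := Nat.odd_iff.2 (by omega)
  haveI : Fact (Nat.Prime 2) := ⟨Nat.prime_two⟩
  obtain ⟨v, hv⟩ := exists_prime_orderOf_dvd_card' (G := P2) 2 (H50.Walter.Odd.even_card h8)
  have hv1 : v ≠ 1 := fun h => by rw [h, orderOf_one] at hv; omega
  have hvv : v * v = 1 := by
    have := pow_orderOf_eq_one v
    rwa [hv, pow_two] at this
  have hu := H88.Walter.PSL.not_isUni hodd hv1 hvv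
  obtain ⟨hm, hc⟩ := H88.Walter.PSL.card_cen_mod h8 hv1 hvv
  have hcC : Nat.card (centralizer ({v} : Set P2)) = 2 * Nat.card (cen v) := by
    rw [H88.Walter.PSL.centralizer_eq hodd hv1 hvv]; exact (torus_normalizer_props hu).1
  haveI := isCyclic_cen hu
  obtain ⟨x, hx⟩ := IsCyclic.exists_generator (α := cen v)
  have hxord : orderOf (x : P2) = Nat.card (cen v) := by
    rw [Subgroup.orderOf_coe, orderOf_eq_card_of_forall_mem_zpowers hx]
  set H := zpowers ((x : P2) ^ 2)
  have hH : Nat.card H = Nat.card (cen v) / 2 := by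
    rw [Nat.card_zpowers, orderOf_pow, hxord, Nat.gcd_eq_right (by omega)]
  have hHle : H ≤ cen v := zpowers_le.2 (pow_mem x.2 2)
  have hcomm : ∀ h ∈ H, Commute v h := fun h hh =>
    cen_comm hv1 (mem_cen_self v) (hHle hh)
  obtain ⟨R, hR, hcov⟩ := exists_reps (H := H) (C := centralizer ({v} : Set P2))
    fun h hh => mem_centralizer_singleton_iff.2 (hcomm h hh).eq.symm
  rw [hH, hcC] at hR
  have hR4 : R.card ≤ 4 := Nat.le_of_mul_le_mul_right (c := Nat.card (cen v) / 2) (by omega)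
    (by omega)
  refine exists_real_even hv H (by rw [hH]; exact Nat.odd_iff.2 (by omega)) hcomm R hcov
    (Or.inr ?_)
  set q := Fintype.card F
  set c := Nat.card (cen v)
  set I := (centralizer ({v} : Set P2)).index
  have hI := (centralizer ({v} : Set P2)).card_mul_index
  rw [hcC] at hI
  have hG := card_PSL_two_mul (F := F)
  rw [Nat.gcd_eq_left (by omega), ← hI] at hG
  rw [← hI]
  have hsq : q ^ 2 - 1 = (q + 1) * (q - 1) := by simpa using Nat.sq_sub_sq q 1
  rw [hsq] at hG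
  refine lt_of_le_of_lt (Nat.mul_le_mul_right _ hR4) ?_
  rcases (show q = 5 ∨ 11 ≤ q by omega) with h | h
  · have hc2 : c = 2 := by omega
    change 2 * (2 * c * I) = q * ((q + 1) * (q - 1)) at hG
    rw [h, hc2] at hG
    have hI15 : I = 15 := by norm_num at hG; omega
    show 4 * (2 * c * I) < (I + 1) ^ 2
    rw [hc2, hI15]; norm_num
  · obtain ⟨j, hj⟩ : ∃ j, q = j + 1 := ⟨q - 1, by omega⟩
    have h2c : 2 * c ≤ j + 2 := by omega
    have key : 4 * (2 * c) ≤ I := by
      change 2 * (2 * c * I) = q * ((q + 1) * (q - 1)) at hG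
      rw [hj, Nat.add_sub_cancel] at hG
      have hlt : 2 * (2 * c) * (4 * (2 * c)) ≤ 2 * (2 * c) * I := by
        calc 2 * (2 * c) * (4 * (2 * c)) = 8 * ((2 * c) * (2 * c)) := by ring
          _ ≤ 8 * ((j + 2) * (j + 2)) := by gcongr
          _ = (8 * (j + 2)) * (j + 2) := by ring
          _ ≤ ((j + 1) * j) * (j + 2) := by
            refine Nat.mul_le_mul_right _ ?_
            nlinarith [Nat.mul_le_mul_left j (show 10 ≤ j by omega)]
          _ = (j + 1) * ((j + 1 + 1) * j) := by ring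
          _ = _ := by rw [← hG]; ring
      exact Nat.le_of_mul_le_mul_left hlt (by omega)
    calc 4 * (2 * c * I) = (4 * (2 * c)) * I := by ring
      _ ≤ I * I := Nat.mul_le_mul_right _ key
      _ < (I + 1) ^ 2 := by nlinarith

end Cfsg.Agent.H88.GalFix
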