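import Cfsg.Agent.H88.GalFix.PSL
import Cfsg.Agent.H88.GalFix.Borel
import Cfsg.Agent.H50.Walter.PieceR

/-!
# Real irreducible characters of even degree in groups of type R

With `C(t) = ⟨t⟩ × E` and `H` the odd part of the normaliser in `E` of a Sylow subgroup of the
defining characteristic there are at most eight double cosets, four if `q ≡ 3 (mod 8)`; the tori and
the unipotent elements supply more real classes, except for `q = 5`, where the order is known.
-/

set_option autoImplicit false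
set_option linter.style.haveILetI false

namespace Cfsg.Agent.H88.GalFix

open Subgroup Cfsg.Agent
open Cfsg.Agent.Linear.Dickson
open Cfsg.Agent.H50.Walter (RData)

universe u

section Classes

variable {G : Type u} [Group G]

/-- A twisted real element is real. -/
theorem isConj_inv_of_inverted {a i : G} (h : i * a * i⁻¹ = a⁻¹) : IsConj a a⁻¹ :=
  isConj_iff.2 ⟨i, h⟩

theorem isConj_mul_inv {t a i : G} (ht : t * t = 1) (hti : Commute t i) (hta : Commute t a)
    (h : i * a * i⁻¹ = a⁻¹) : IsConj (t * a) (t * a)⁻¹ := by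
  refine isConj_iff.2 ⟨i, ?_⟩
  rw [mul_inv_rev, inv_eq_of_mul_eq_one_right ht, show i * (t * a) * i⁻¹ = (i * t * i⁻¹) * (i * a * i⁻¹) by group, h,
    ← hti.eq, mul_inv_cancel_right]
  exact hta.inv_right.eq

theorem orderOf_mul_involution {t a : G} (ht : orderOf t = 2) (hta : Commute t a)
    (ha : Odd (orderOf a)) : orderOf (t * a) = 2 * orderOf a := by
  rw [hta.orderOf_mul_eq_mul_orderOf_of_coprime (by rw [ht]; exact Nat.coprime_two_left.2 ha), ht]

/-- A conjugation between twisted elements fixes the involution. -/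
theorem conj_twisted {t a b c : G} (ht : orderOf t = 2) (hta : Commute t a) (htb : Commute t b)
    (ha : Odd (orderOf a)) (hb : orderOf b = orderOf a) (h : c * (t * a) * c⁻¹ = t * b) :
    c ∈ centralizer ({t} : Set G) ∧ c * a * c⁻¹ = b := by
  have hpow : ∀ x : G, Commute t x → orderOf x = orderOf a → (t * x) ^ orderOf a = t := by
    intro x hx hox
    rw [hx.mul_pow]
    nth_rewrite 2 [← hox]
    rw [pow_orderOf_eq_one, mul_one]
    obtain ⟨j, hj⟩ := ha
    rw [hj, pow_succ, pow_mul, ← ht, pow_orderOf_eq_one, one_pow, one_mul]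
  have hc : c * t * c⁻¹ = t := by
    have e := congrArg (· ^ orderOf a) h
    simp only [conj_pow, hpow a hta rfl, hpow b htb hb] at e
    exact e
  refine ⟨mem_centralizer_singleton_iff.2 (mul_inv_eq_iff_eq_mul.1 hc), ?_⟩
  rw [show c * (t * a) * c⁻¹ = c * t * c⁻¹ * (c * a * c⁻¹) by group, hc] at h
  exact mul_left_cancel h

end Classes

variable {G : Type u} [Group G] [Finite G] {t : G} {E E₀ : Subgroup G}
variable {F : Type} [Field F] [Fintype F]

local notation "P2" => Matrix.ProjectiveSpecialLinearGroup (Fin 2) F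

variable (h : RData t E E₀) (f : Matrix.ProjectiveSpecialLinearGroup (Fin 2) F →* G) (hf : Function.Injective f) (hrange : f.range = E₀)

omit [Finite G] [Fintype F] in
include h hrange in
theorem f_mem (x : P2) : f x ∈ E := h.le (hrange ▸ ⟨x, rfl⟩)

omit [Finite G] [Fintype F] in
include h hrange in
theorem f_comm (x : P2) : Commute t (f x) := h.prod.2.2.1 t (mem_zpowers t) _ (f_mem h f hrange x)

include h hrange in
/-- An element of `E` normalises the conjugate of the unipotent subgroup it is multiplied into. -/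
theorem exists_frattini (h8 : Fintype.card F % 8 = 3 ∨ Fintype.card F % 8 = 5) (hf : Function.Injective f)
    {x : G} (hx : x ∈ E) :
    ∃ g : P2, f g * x ∈
      normalizer (((cen (stdUni : P2)).map f : Subgroup G) : Set G) := by
  obtain ⟨p, hchar⟩ := CharP.exists F
  haveI hp : Fact p.Prime := ⟨CharP.char_is_prime F p⟩
  obtain ⟨m, -, hm⟩ := FiniteField.card F p
  have hp2 : p ≠ 2 := by
    rintro rfl
    have : 2 ∣ Fintype.card F := hm ▸ dvd_pow_self 2 m.ne_zero
    omega
  set V := ((cen (stdUni : P2)).map f).map (MulAut.conj x).toMonoidHom with hV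
  have hV0 : ∀ y ∈ V, y ∈ f.range := by
    rintro _ ⟨_, ⟨v, hv, rfl⟩, rfl⟩
    rw [hrange]
    exact h.conj_mem (h.E_le hx) (hrange ▸ ⟨v, rfl⟩)
  have hmem : ∀ a ∈ V.comap f, ∃ v ∈ cen (stdUni : P2), f a = x * f v * x⁻¹ := by
    rintro a ⟨_, ⟨v, hv, rfl⟩, he⟩
    exact ⟨v, hv, he.symm⟩
  refine (exists_conj_le_cen (U := V.comap f) p hp2 ?_ ?_ ?_).elim fun g hg => ?_
  rotate_left 3
  · refine ⟨g, Components.mem_normalizer_of_map_conj_eq (eq_of_le_of_card_ge ?_ (le_of_eq
      (card_map_of_injective (MulAut.conj (f g * x)).injective).symm))⟩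
    rintro _ ⟨_, ⟨v, hv, rfl⟩, rfl⟩
    obtain ⟨a, ha⟩ := hV0 (x * f v * x⁻¹) ⟨f v, ⟨v, hv, rfl⟩, rfl⟩
    refine ⟨g * a * g⁻¹, hg a ?_, ?_⟩
    · exact mem_comap.2 (ha ▸ ⟨f v, ⟨v, hv, rfl⟩, rfl⟩)
    · show f (g * a * g⁻¹) = f g * x * f v * (f g * x)⁻¹
      rw [map_mul, map_mul, map_inv, ha]; group
  · intro hbot
    obtain ⟨a, ha⟩ := hV0 (x * f stdUni * x⁻¹) ⟨_, ⟨_, mem_cen_self _, rfl⟩, rfl⟩
    have ha' : a ∈ V.comap f := mem_comap.2 (ha ▸ ⟨_, ⟨_, mem_cen_self _, rfl⟩, rfl⟩)
    rw [hbot, mem_bot] at ha'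
    rw [ha', map_one] at ha
    exact stdUni_ne_one (hf (by rw [map_one]; exact conj_eq_one_iff.1 ha.symm))
  · intro a ha
    obtain ⟨v, hv, he⟩ := hmem a ha
    refine hf ?_
    rw [map_pow, he, conj_pow, ← map_pow, pow_char_eq_one_of_isUni p (isUni_of_mem_cen_stdUni hv),
      map_one, mul_one, mul_inv_cancel]
  · intro a ha b hb
    obtain ⟨v, hv, hea⟩ := hmem a ha
    obtain ⟨w, hw, heb⟩ := hmem b hb
    refine hf ?_
    rw [map_mul, map_mul, hea, heb, conj_mul, conj_mul, ← map_mul, ← map_mul,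
      cen_comm stdUni_ne_one hv hw]

/-- The normaliser in `E` of the image of the unipotent subgroup. -/
def uniNor (E : Subgroup G) (f : P2 →* G) : Subgroup G :=
  E ⊓ normalizer (((cen (stdUni : P2)).map f : Subgroup G) : Set G)

omit [Finite G] in
include h hf hrange in
theorem f_mem_uniNor_iff (y : P2) : f y ∈ uniNor E f ↔ y ∈ borel F := by
  constructor
  · intro hy
    obtain ⟨v, hv, he⟩ := (mem_normalizer_iff.1 hy.2 (f stdUni)).1 ⟨_, mem_cen_self _, rfl⟩
    rw [← map_inv, ← map_mul, ← map_mul] at he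
    exact mem_borel_of_normalizes (hf he ▸ hv)
  · intro hy
    exact ⟨f_mem h f hrange y, le_normalizer_map f ⟨y, borel_le_normalizer hy, rfl⟩⟩

include h hf hrange in
theorem card_uniNor (h16 : ¬ 16 ∣ Nat.card G) :
    ∃ m : ℕ, Odd m ∧ Nat.card (uniNor E f) = Nat.card (borel F) * m := by
  haveI := h.normal
  have hNE : uniNor E f ≤ E := inf_le_left
  set ψ := (QuotientGroup.mk' (E₀.subgroupOf E)).comp (Subgroup.inclusion hNE) with hψ
  refine ⟨Nat.card ψ.range,
    (h.odd_relIndex h16).of_dvd_nat ((card_subgroup_dvd_card ψ.range).trans ?_), ?_⟩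
  · rw [← index_eq_card]; exact dvd_rfl
  have hker : Nat.card ψ.ker = Nat.card (borel F) := by
    refine (Nat.card_congr (Equiv.ofBijective
      (fun y : borel F => (⟨⟨f y, (f_mem_uniNor_iff h f hf hrange _).2 y.2⟩, ?_⟩ : ψ.ker))
      ⟨fun a b hab => Subtype.ext (hf (congrArg (fun z : ψ.ker => ((z : uniNor E f) : G)) hab)),
        ?_⟩)).symm
    · rw [MonoidHom.mem_ker, hψ]
      refine (QuotientGroup.eq_one_iff _).2 (mem_subgroupOf.2 ?_)
      exact hrange.le ⟨_, rfl⟩
    · rintro ⟨⟨z, hz⟩, hk⟩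
      rw [MonoidHom.mem_ker, hψ] at hk
      have hz0 : z ∈ E₀ := mem_subgroupOf.1 ((QuotientGroup.eq_one_iff _).1 hk)
      obtain ⟨y, hy⟩ : z ∈ f.range := by rw [hrange]; exact hz0
      exact ⟨⟨y, (f_mem_uniNor_iff h f hf hrange _).1 (hy.symm ▸ hz)⟩,
        Subtype.ext (Subtype.ext hy)⟩
  rw [← hker, ← Subgroup.card_mul_index ψ.ker, Subgroup.index_ker]

include h hf hrange in
/-- Representatives from a subgroup of the normaliser with representatives `Z`. -/
theorem exists_cover (h8 : Fintype.card F % 8 = 3 ∨ Fintype.card F % 8 = 5) (H : Subgroup G)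
    (hHN : H ≤ uniNor E f) (Z S : List G)
    (hZl : ∀ x ∈ uniNor E f, ∃ a ∈ H, ∃ z ∈ Z, x = a * z)
    (hZr : ∀ x ∈ uniNor E f, ∃ a ∈ H, ∃ z ∈ Z, x = z * a)
    (hS : ∀ z ∈ Z, z ∈ S ∧ ∀ z' ∈ Z, z * f weyl * z' ∈ S) :
    ∃ R : Finset G, R.card ≤ 2 * S.length ∧
      ∀ x ∈ centralizer ({t} : Set G), ∃ r ∈ R, ∃ a ∈ H, ∃ b ∈ H, x = a * r * b := by
  classical
  refine ⟨(S ++ S.map (t * ·)).toFinset, (List.toFinset_card_le _).trans (by simp; omega),
    fun x hx => ?_⟩
  have key : ∀ e ∈ E, ∃ r ∈ S, ∃ a ∈ H, ∃ b ∈ H, e = a * r * b := by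
    intro e he
    obtain ⟨g, hg⟩ := exists_frattini h f hrange h8 hf he
    have hn : f g * e ∈ uniNor E f := ⟨mul_mem (f_mem h f hrange g) he, hg⟩
    rcases bruhat g⁻¹ with hb | ⟨a, ha, b, hb, hab⟩
    · have he' : e ∈ uniNor E f := by
        have := mul_mem ((f_mem_uniNor_iff h f hf hrange _).2 hb) hn
        rwa [map_inv, inv_mul_cancel_left] at this
      obtain ⟨a, ha, z, hz, rfl⟩ := hZl e he'
      exact ⟨z, (hS z hz).1, a, ha, 1, H.one_mem, (mul_one _).symm⟩
    · obtain ⟨a', ha', z, hz, hea⟩ := hZl _ ((f_mem_uniNor_iff h f hf hrange _).2 ha)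
      obtain ⟨b', hb', z', hz', heb⟩ := hZr _ (mul_mem ((f_mem_uniNor_iff h f hf hrange _).2 hb) hn)
      refine ⟨_, (hS z hz).2 z' hz', a', ha', b', hb', ?_⟩
      calc e = f g⁻¹ * (f g * e) := by rw [map_inv, inv_mul_cancel_left]
        _ = f a * f weyl * (f b * (f g * e)) := by rw [hab, map_mul, map_mul]; group
        _ = _ := by rw [hea, heb]; group
  obtain ⟨e, he, hxe⟩ := h.decomp hx
  obtain ⟨r, hr, a, ha, b, hb, hab⟩ := key e he
  rcases hxe with hxe | hxe
  · exact ⟨r, by simp [hr], a, ha, b, hb, hxe.trans hab⟩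
  · refine ⟨t * r, by simp [hr], a, ha, b, hb, ?_⟩
    have hta : t * a = a * t := h.prod.2.2.1 t (mem_zpowers t) a (hHN ha).1
    rw [hxe, hab, ← mul_assoc a t r, ← hta]
    group

include h hf hrange in
theorem exists_real_even_three (h16 : ¬ 16 ∣ Nat.card G) (h5 : 5 ≤ Fintype.card F)
    (h8 : Fintype.card F % 8 = 3) :
    ∃ χ : Cfsg.IrrCharacter G, Even (Cfsg.charDegree (χ : G → ℂ)) ∧
      ∀ g : G, ((χ : G → ℂ) g).im = 0 := by
  set q := Fintype.card F
  obtain ⟨m, hm, hcard⟩ := card_uniNor h f hf hrange h16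
  have hodd : Odd (Nat.card (uniNor E f)) := by
    rw [hcard]
    refine Odd.mul ?_ hm
    have hb := card_borel (F := F)
    rw [Nat.gcd_eq_left (show 2 ∣ q - 1 by omega)] at hb
    obtain ⟨j, hj⟩ : ∃ j, q = 8 * j + 3 := ⟨q / 8, by omega⟩
    rw [show q * (q - 1) = 2 * ((8 * j + 3) * (4 * j + 1)) by
      rw [hj, show 8 * j + 3 - 1 = 2 * (4 * j + 1) by omega]; ring] at hb
    rw [Nat.eq_of_mul_eq_mul_left two_pos hb]
    exact (Nat.odd_iff.2 (by omega)).mul (Nat.odd_iff.2 (by omega))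
  obtain ⟨R, hR, hcov⟩ := exists_cover h f hf hrange (Or.inl h8) _ le_rfl [1] [1, f weyl]
    (fun x hx => ⟨x, hx, 1, by simp, (mul_one x).symm⟩)
    (fun x hx => ⟨x, hx, 1, by simp, (one_mul x).symm⟩) (fun z hz => by simp_all)
  obtain ⟨a, b, i, j, m₁, m₂, hoa, hob, hm1, hm2, h1, h2, hne, -, -, hi, hj⟩ :=
    exists_torus_pair (F := F) (by omega) (Or.inl h8)
  refine exists_real_even h.ord _ hodd
    (fun x hx => h.prod.2.2.1 t (mem_zpowers t) x hx.1) R hcov (Or.inl ?_)
  have hi' : f i * f a * (f i)⁻¹ = (f a)⁻¹ := by rw [← map_inv, ← map_inv, ← map_mul, ← map_mul, hi]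
  have hj' : f j * f b * (f j)⁻¹ = (f b)⁻¹ := by rw [← map_inv, ← map_inv, ← map_mul, ← map_mul, hj]
  have ha' : orderOf (f a) = m₁ := (orderOf_injective f hf a).trans hoa
  have hb' : orderOf (f b) = m₂ := (orderOf_injective f hf b).trans hob
  have hta := orderOf_mul_involution h.ord (f_comm h f hrange a) (ha'.symm ▸ hm1)
  have htb := orderOf_mul_involution h.ord (f_comm h f hrange b) (hb'.symm ▸ hm2)
  rw [ha'] at hta
  rw [hb'] at htb
  have hs5 : 5 ≤ Nat.card (RealIrr G) := le_card_real ![1, t, t * f a, t * f b, f a]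
    (fun k => by
      fin_cases k
      · show IsConj (1 : G) 1⁻¹
        rw [inv_one]
      · show IsConj t t⁻¹
        rw [inv_eq_of_mul_eq_one_right h.sq]
      · exact isConj_mul_inv h.sq (f_comm h f hrange i) (f_comm h f hrange a) hi'
      · exact isConj_mul_inv h.sq (f_comm h f hrange j) (f_comm h f hrange b) hj'
      · exact isConj_inv_of_inverted hi')
    (fun k l hkl hc => by
      obtain ⟨c, hc⟩ := isConj_iff.1 hc
      have heq := congrArg orderOf hc
      rw [← MulAut.conj_apply, MulEquiv.orderOf_eq] at heq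
      fin_cases k <;> fin_cases l <;>
        first
        | exact hkl rfl
        | (simp [h.ord, ha', hta, htb] at heq <;>
            (obtain ⟨u, hu⟩ := hm1; obtain ⟨v, hv⟩ := hm2; omega)))
  simp only [List.length_cons, List.length_nil] at hR
  omega

include h hf hrange in
theorem cover_five (h16 : ¬ 16 ∣ Nat.card G) (h8 : Fintype.card F % 8 = 5) :
    ∃ H : Subgroup G, Odd (Nat.card H) ∧ (∀ x ∈ H, Commute t x) ∧ ∃ R : Finset G, R.card ≤ 8 ∧
      ∀ x ∈ centralizer ({t} : Set G), ∃ r ∈ R, ∃ a ∈ H, ∃ b ∈ H, x = a * r * b := by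
  set q := Fintype.card F with hq
  obtain ⟨m, hm, hcard⟩ := card_uniNor h f hf hrange h16
  have hb := card_borel (F := F)
  rw [← hq, Nat.gcd_eq_left (show 2 ∣ q - 1 by omega)] at hb
  obtain ⟨j, hj⟩ : ∃ j, q = 8 * j + 5 := ⟨q / 8, by omega⟩
  rw [show q * (q - 1) = 2 * (2 * ((8 * j + 5) * (2 * j + 1))) by
    rw [hj, show 8 * j + 5 - 1 = 4 * (2 * j + 1) by omega]; ring] at hb
  rw [Nat.eq_of_mul_eq_mul_left two_pos hb, mul_assoc] at hcard
  have ho : Odd ((8 * j + 5) * (2 * j + 1) * m) :=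
    ((Nat.odd_iff.2 (by omega)).mul (Nat.odd_iff.2 (by omega))).mul hm
  obtain ⟨M, hMn, hM⟩ := exists_index_two ho hcard
  have hMc : Nat.card M = (8 * j + 5) * (2 * j + 1) * m := by
    have := M.card_mul_index
    rw [hM, hcard] at this
    omega
  have h2F : (2 : F) ≠ 0 := by
    intro h0
    haveI : CharP F 2 := CharTwo.of_one_ne_zero_of_two_eq_zero one_ne_zero h0
    obtain ⟨k, -, hk⟩ := FiniteField.card F 2
    have : 2 ∣ q := by rw [hq, hk]; exact dvd_pow_self 2 k.ne_zero
    omega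
  obtain ⟨s₀, hs₀, hso, hsw, -⟩ := exists_borel_involution h2F
    (FiniteField.isSquare_neg_one_iff.2 (by omega))
  set H := M.map (uniNor E f).subtype
  have hH : Nat.card H = (8 * j + 5) * (2 * j + 1) * m := by
    rw [card_map_of_injective (uniNor E f).subtype_injective, hMc]
  have hHN : H ≤ uniNor E f := fun x hx => by obtain ⟨y, -, rfl⟩ := hx; exact y.2
  set s : uniNor E f := ⟨f s₀, (f_mem_uniNor_iff h f hf hrange _).2 hs₀⟩
  have hso' : orderOf s = 2 := by
    rw [← Subgroup.orderOf_coe]; exact (orderOf_injective f hf s₀).trans hso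
  have hsM : s ∉ M := by
    intro hs
    have := Subgroup.orderOf_dvd_natCard _ hs
    rw [hso', hMc] at this
    exact (Nat.not_even_iff_odd.2 ho) (even_iff_two_dvd.2 this)
  have hss : (f s₀) * f s₀ = 1 := by
    have := pow_orderOf_eq_one s₀
    rw [hso, pow_two] at this
    rw [← map_mul, this, map_one]
  obtain ⟨R, hR, hcov⟩ := exists_cover h f hf hrange (Or.inr h8) H hHN [1, f s₀]
    [1, f s₀, f weyl, f s₀ * f weyl]
    (fun x hx => by
      by_cases hxM : (⟨x, hx⟩ : uniNor E f) ∈ M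
      · exact ⟨x, ⟨_, hxM, rfl⟩, 1, by simp, (mul_one x).symm⟩
      · refine ⟨x * f s₀, ⟨⟨x, hx⟩ * s, ?_, rfl⟩, f s₀, by simp, by rw [mul_assoc, hss, mul_one]⟩
        exact (mul_mem_iff_of_index_two hM).2 (iff_of_false hxM hsM))
    (fun x hx => by
      by_cases hxM : (⟨x, hx⟩ : uniNor E f) ∈ M
      · exact ⟨x, ⟨_, hxM, rfl⟩, 1, by simp, (one_mul x).symm⟩
      · refine ⟨f s₀ * x, ⟨s * ⟨x, hx⟩, ?_, rfl⟩, f s₀, by simp, by rw [← mul_assoc, hss, one_mul]⟩
        exact (mul_mem_iff_of_index_two hM).2 (iff_of_false hsM hxM))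
    (fun z hz => by
      have e1 : f weyl * f s₀ = f s₀ * f weyl := by rw [← map_mul, ← map_mul, hsw]
      have e2 : f s₀ * f weyl * f s₀ = f weyl := by rw [mul_assoc, e1, ← mul_assoc, hss, one_mul]
      simp only [List.mem_cons, List.not_mem_nil, or_false] at hz ⊢
      rcases hz with rfl | rfl <;> refine ⟨by simp, ?_⟩ <;> rintro z' (rfl | rfl) <;>
        simp [e1, e2])
  exact ⟨H, hH.symm ▸ ho, fun x hx => h.prod.2.2.1 t (mem_zpowers t) x (hHN hx).1, R,
    hR.trans (by simp), hcov⟩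

include h hf hrange in
theorem exists_real_even_five (h16 : ¬ 16 ∣ Nat.card G) (h5 : 5 < Fintype.card F)
    (h8 : Fintype.card F % 8 = 5) :
    ∃ χ : Cfsg.IrrCharacter G, Even (Cfsg.charDegree (χ : G → ℂ)) ∧
      ∀ g : G, ((χ : G → ℂ) g).im = 0 := by
  obtain ⟨H, hH, hHt, R, hR, hcov⟩ := cover_five h f hf hrange h16 h8
  refine exists_real_even h.ord H hH hHt R hcov (Or.inl ?_)
  obtain ⟨p, hchar⟩ := CharP.exists F
  haveI hp : Fact p.Prime := ⟨CharP.char_is_prime F p⟩
  obtain ⟨k, -, hk⟩ := FiniteField.card F p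
  have hp2 : p ≠ 2 := by
    rintro rfl
    have : 2 ∣ Fintype.card F := hk ▸ dvd_pow_self 2 k.ne_zero
    omega
  have hpo : Odd p := hp.out.odd_of_ne_two hp2
  have h2F : (2 : F) ≠ 0 := fun h0 => hp2 ((Nat.prime_dvd_prime_iff_eq hp.out Nat.prime_two).1
    ((CharP.cast_eq_zero_iff F p 2).1 (by simpa using h0)))
  obtain ⟨a, b, i, j, m₁, m₂, hoa, hob, hm1, hm2, h1, h2, hne, hc1, hc2, hi, hj⟩ :=
    exists_torus_pair (F := F) h5 (Or.inr h8)
  obtain ⟨s₀, -, -, -, hs⟩ := exists_borel_involution h2F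
    (FiniteField.isSquare_neg_one_iff.2 (by omega))
  set v := f stdUni with hv_def
  have hv : orderOf v = p := (orderOf_injective f hf _).trans
    (orderOf_eq_prime (pow_char_eq_one_of_isUni p isUni_stdUni) stdUni_ne_one)
  have hv2 : orderOf (v * v) = p := by
    rw [← pow_two, Nat.Coprime.orderOf_pow (hv.symm ▸ Nat.coprime_two_right.2 hpo), hv]
  have hne1 : m₁ ≠ p := fun e => by
    have h' : Nat.Coprime p (p ^ (k : ℕ)) := by rw [hk, e] at hc1; exact hc1
    exact hp.out.one_lt.ne' (Nat.eq_one_of_dvd_coprimes h' dvd_rfl (dvd_pow_self p k.ne_zero))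
  have hne2 : m₂ ≠ p := fun e => by
    have h' : Nat.Coprime p (p ^ (k : ℕ)) := by rw [hk, e] at hc2; exact hc2
    exact hp.out.one_lt.ne' (Nat.eq_one_of_dvd_coprimes h' dvd_rfl (dvd_pow_self p k.ne_zero))
  have hi' : f i * f a * (f i)⁻¹ = (f a)⁻¹ := by rw [← map_inv, ← map_inv, ← map_mul, ← map_mul, hi]
  have hj' : f j * f b * (f j)⁻¹ = (f b)⁻¹ := by rw [← map_inv, ← map_inv, ← map_mul, ← map_mul, hj]
  have hs' : f s₀ * v * (f s₀)⁻¹ = v⁻¹ := by rw [← map_inv, ← map_inv, ← map_mul, ← map_mul, hs]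
  have hs2 : f s₀ * (v * v) * (f s₀)⁻¹ = (v * v)⁻¹ := by rw [← conj_mul, hs', mul_inv_rev]
  have hvc : Commute t v := f_comm h f hrange stdUni
  have ha' : orderOf (f a) = m₁ := (orderOf_injective f hf a).trans hoa
  have hb' : orderOf (f b) = m₂ := (orderOf_injective f hf b).trans hob
  have hta := orderOf_mul_involution h.ord (f_comm h f hrange a) (ha'.symm ▸ hm1)
  have htb := orderOf_mul_involution h.ord (f_comm h f hrange b) (hb'.symm ▸ hm2)
  have htv := orderOf_mul_involution h.ord hvc (hv.symm ▸ hpo)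
  have htv2 := orderOf_mul_involution h.ord (hvc.mul_right hvc) (hv2.symm ▸ hpo)
  rw [ha'] at hta
  rw [hb'] at htb
  rw [hv] at htv
  rw [hv2] at htv2
  have hkey : ∀ c : G, c * (t * v) * c⁻¹ ≠ t * (v * v) := by
    intro c hc
    obtain ⟨hcC, hcv⟩ := conj_twisted h.ord hvc (hvc.mul_right hvc) (hv.symm ▸ hpo)
      (hv2.trans hv.symm) hc
    obtain ⟨e, he, hce⟩ := h.decomp hcC
    have hev : e * v * e⁻¹ = v ^ 2 := by
      rw [pow_two]
      rcases hce with rfl | rfl
      · exact hcv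
      · rw [← hcv, show t * e * v * (t * e)⁻¹ = t * (e * v * e⁻¹) * t⁻¹ by group,
          h.prod.2.2.1 t (mem_zpowers t) _ (mul_mem (mul_mem he (f_mem h f hrange _)) (inv_mem he)),
          mul_inv_cancel_right]
    have hit : ∀ n : ℕ, e ^ n * v * (e ^ n)⁻¹ = v ^ 2 ^ n := by
      intro n
      induction n with
      | zero => simp
      | succ n ih =>
        rw [pow_succ' e, show e * e ^ n * v * (e * e ^ n)⁻¹ = e * (e ^ n * v * (e ^ n)⁻¹) * e⁻¹ by
          group, ih, ← conj_pow, hev, ← pow_mul, pow_succ' 2]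
    haveI := h.normal
    set d := E₀.relIndex E with hd
    have hd' : (⟨e, he⟩ : E) ^ d ∈ E₀.subgroupOf E := pow_index_mem _ _
    obtain ⟨g, hg⟩ : e ^ d ∈ f.range := by
      rw [hrange]; exact mem_subgroupOf.1 hd'
    have hgd := hit d
    rw [← hg, ← map_inv, ← map_mul, ← map_mul, ← map_pow] at hgd
    obtain ⟨n, hn⟩ := h.odd_relIndex h16
    have hpw : ∀ n : ℕ, (stdUni : P2) ^ n = proj (Linear.upSL (n : F)) := by
      intro n
      induction n with
      | zero =>
        rw [pow_zero, ← map_one (proj (F := F))]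
        refine congrArg proj (Linear.SL_ext_two ?_ ?_ ?_ ?_) <;> simp [Linear.upSL_coe]
      | succ n ih =>
        rw [pow_succ, ih, stdUni, ← map_mul]
        refine congrArg proj (Linear.SL_ext_two ?_ ?_ ?_ ?_) <;>
          simp [Linear.SL_mul_entries, Linear.upSL_coe, add_comm]
    have hsq := isSquare_of_conj h2F ((hf hgd).trans (hpw (2 ^ d)))
    rw [hd, hn] at hsq
    push_cast at hsq
    rw [pow_succ, mul_comm] at hsq
    obtain ⟨r, hr⟩ := hsq
    have h2n : IsSquare (2 : F) := ⟨r / 2 ^ n, by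
      rw [← pow_two, mul_comm 2 n, pow_mul] at hr
      field_simp
      linear_combination hr⟩
    exact (FiniteField.isSquare_two_iff.1 h2n).2 h8
  have hs9 : 9 ≤ Nat.card (RealIrr G) :=
    le_card_real ![1, t, t * f a, t * f b, t * v, t * (v * v), f a, f b, v]
    (fun l => by
      fin_cases l
      · show IsConj (1 : G) 1⁻¹
        rw [inv_one]
      · show IsConj t t⁻¹
        rw [inv_eq_of_mul_eq_one_right h.sq]
      · exact isConj_mul_inv h.sq (f_comm h f hrange i) (f_comm h f hrange a) hi'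
      · exact isConj_mul_inv h.sq (f_comm h f hrange j) (f_comm h f hrange b) hj'
      · exact isConj_mul_inv h.sq (f_comm h f hrange s₀) hvc hs'
      · exact isConj_mul_inv h.sq (f_comm h f hrange s₀) (hvc.mul_right hvc) hs2
      · exact isConj_inv_of_inverted hi'
      · exact isConj_inv_of_inverted hj'
      · exact isConj_inv_of_inverted hs')
    (fun l l' hll hc => by
      obtain ⟨c, hc⟩ := isConj_iff.1 hc
      have heq := congrArg orderOf hc
      rw [← MulAut.conj_apply, MulEquiv.orderOf_eq] at heq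
      fin_cases l <;> fin_cases l' <;>
        first
        | exact hll rfl
        | exact hkey c hc
        | exact hkey c⁻¹ (by
            rw [← show c * (t * (v * v)) * c⁻¹ = t * v from hc]; group)
        | (simp [h.ord, ha', hb', hv, hta, htb, htv, htv2] at heq <;>
            (obtain ⟨x, hx⟩ := hm1; obtain ⟨y, hy⟩ := hm2; obtain ⟨z, hz⟩ := hpo
             have := hp.out.two_le
             omega)))
  omega

end Cfsg.Agent.H88.GalFix
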